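import Cfsg.Agent.CD88.Reverse
import Cfsg.Agent.Lib.LinearGroup.PSLTools

/-!
# The centraliser of an involution of `PSL(2, 2ⁿ)` is a `2`-group
-/

set_option autoImplicit false
set_option linter.style.haveILetI false

namespace Cfsg.Agent.CD88

open Cfsg.Agent.Char2x2

universe u

section

variable {F : Type*} [Field F] [Fintype F] [DecidableEq F] [CharP F 2]

local notation "SL2" => Matrix.SpecialLinearGroup (Fin 2) F

omit [Fintype F] [DecidableEq F] in
/-- An element of `SL(2, 2ⁿ)` commuting with a transvection squares to `1`. -/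
theorem sq_eq_one_of_commute {v : SL2} (h : Commute (uS 1) v) : v * v = 1 := by
  have hm : sm (uS 1) * sm v = sm v * sm (uS 1) := congrArg sm (h.eq : uS 1 * v = v * uS 1)
  rw [sm_uS] at hm
  have h0 := congrFun (congrFun hm 0) 0
  have h1 := congrFun (congrFun hm 0) 1
  simp [Matrix.mul_apply, Fin.sum_univ_two] at h0 h1
  have hd : (sm v).det = 1 := v.2
  rw [Matrix.det_fin_two, h0, mul_zero, sub_zero] at hd
  have had : sm v 0 0 = sm v 1 1 := by linear_combination -h1
  refine Subtype.ext ?_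
  show sm v * sm v = (1 : Matrix (Fin 2) (Fin 2) F)
  ext i j
  fin_cases i <;> fin_cases j <;>
    simp [Matrix.mul_apply, Fin.sum_univ_two, h0]
  · linear_combination hd + sm v 0 0 * had
  · linear_combination sm v 0 1 * (CharTwo.two_eq_zero : (2 : F) = 0) * sm v 0 0 -
      sm v 0 1 * had
  · linear_combination hd - sm v 1 1 * had

end

/-- The centraliser of an involution of `PSL(2, 2ⁿ)` has no element of odd order but `1`. -/
theorem centraliser_trivial {G : Type u} [Group G] (F : Type) [Field F] [Fintype F] (n : ℕ)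
    (hn : 2 ≤ n) (hF : Fintype.card F = 2 ^ n)
    (e : G ≃* Matrix.ProjectiveSpecialLinearGroup (Fin 2) F) {z : G} (hz : orderOf z = 2) {v : G}
    (hc : Commute z v) (hv : ¬ 2 ∣ orderOf v) : v = 1 := by
  classical
  have : CharP F 2 := by
    haveI : Fact (Nat.Prime 2) := ⟨Nat.prime_two⟩
    exact charP_of_card_eq_prime_pow hF
  have hgcd : Nat.gcd (Fintype.card (Fin 2)) (Nat.card F - 1) = 1 := by
    rw [Fintype.card_fin, Nat.card_eq_fintype_card, hF]
    refine (Nat.Prime.coprime_iff_not_dvd Nat.prime_two).2 ?_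
    intro h
    have h2 : 2 ∣ 2 ^ n := dvd_pow_self 2 (by omega)
    have h1 : 1 ≤ 2 ^ n := Nat.one_le_two_pow
    generalize 2 ^ n = c at h h1 h2
    omega
  let b := e.trans (LinearGroup.slEquivPSL hgcd).symm
  have hz2 : z ^ 2 = 1 := hz ▸ pow_orderOf_eq_one z
  have hb2 : b z ^ 2 = 1 := by rw [← map_pow, hz2, map_one]
  have hb1 : b z ≠ 1 := fun h => by
    rw [b.map_eq_one_iff] at h
    rw [h, orderOf_one] at hz
    omega
  obtain ⟨g, hg⟩ := isConj_iff.1 (isConj_uS_one hb1 hb2)
  have hu : uS (1 : F) = g⁻¹ * b z * g := by rw [← hg]; group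
  have hc' : Commute (uS (1 : F)) (g⁻¹ * b v * g) := by
    show uS 1 * _ = _ * uS 1
    rw [hu]
    calc g⁻¹ * b z * g * (g⁻¹ * b v * g) = g⁻¹ * (b z * b v) * g := by group
      _ = g⁻¹ * (b v * b z) * g := by rw [← map_mul, hc.eq, map_mul]
      _ = _ := by group
  have h2 : b v * b v = 1 := by
    calc b v * b v = g * ((g⁻¹ * b v * g) * (g⁻¹ * b v * g)) * g⁻¹ := by group
      _ = 1 := by rw [sq_eq_one_of_commute hc']; group
  have hv2 : v ^ 2 = 1 := b.injective (by rw [map_pow, pow_two, h2, map_one])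
  rcases (Nat.dvd_prime Nat.prime_two).1 (orderOf_dvd_of_pow_eq_one hv2) with h | h
  · exact orderOf_eq_one_iff.1 h
  · exact absurd (h ▸ dvd_rfl) hv

end Cfsg.Agent.CD88
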