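import Cfsg.Agent.S0923
import Cfsg.Agent.S0936
import Cfsg.Agent.BC86.Core
import Cfsg.Agent.Lib.SmallGroups.SelfCent.Phi
import Cfsg.Agent.Lib.BlocksCore.WeakOrth
import Cfsg.Agent.Lib.BlocksDefect.PrincipalSection

/-!
# Multiplicities of section functions in the members of the principal block

For a `p`-element `z`, `H = C(z)` and a class function `f` of `H` which vanishes on singular
elements and is orthogonal to the characters outside the principal block of `H`, the numbers
`⟨h ↦ χ (z h), f⟩` vanish outside the principal block of `G` and are read off from the column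
orthogonality.
-/

set_option autoImplicit false
set_option maxHeartbeats 400000

namespace Cfsg.Agent.CD88

open Subgroup Finset
open scoped ComplexConjugate

universe u

variable {G : Type u} [Group G] [Finite G] {p : ℕ} [Fact p.Prime] {M : Ideal Cfsg.AlgInt}

/-- The function `h ↦ χ (z h)` on `C(z)`. -/
def sec (z : G) (χ : Cfsg.IrrCharacter G) : ↥(centralizer ({z} : Set G)) → ℂ :=
  fun h => (χ : G → ℂ) (z * h)

theorem isClassFunction_sec (z : G) (χ : Cfsg.IrrCharacter G) :
    Cfsg.IsClassFunction ↥(centralizer ({z} : Set G)) (sec z χ) := by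
  haveI := Fintype.ofFinite G
  intro g d
  show (χ : G → ℂ) _ = (χ : G → ℂ) _
  have hd : (d : G) * z = z * d := mem_centralizer_singleton_iff.mp d.2
  rw [← BlocksCore.irr_class χ (z * (g : G)) (d : G)]
  refine congrArg (χ : G → ℂ) ?_
  push_cast
  calc z * ((d : G) * g * (d : G)⁻¹) = (z * d) * g * (d : G)⁻¹ := by group
    _ = _ := by rw [← hd, mul_assoc (d : G) z]

/-- The multiplicity of a function of `C(z)` in the section of `χ`. -/
noncomputable def mult (z : G) (f : ↥(centralizer ({z} : Set G)) → ℂ) (χ : Cfsg.IrrCharacter G) :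
    ℂ :=
  (Nat.card ↥(centralizer ({z} : Set G)) : ℂ)⁻¹ *
    ∑ᶠ h : ↥(centralizer ({z} : Set G)), (χ : G → ℂ) (z * h) * conj (f h)

theorem mult_def (z : G) [Fintype ↥(centralizer ({z} : Set G))]
    (f : ↥(centralizer ({z} : Set G)) → ℂ) (χ : Cfsg.IrrCharacter G) :
    mult z f χ = (Nat.card ↥(centralizer ({z} : Set G)) : ℂ)⁻¹ *
      ∑ h : ↥(centralizer ({z} : Set G)), (χ : G → ℂ) (z * h) * conj (f h) := by
  rw [mult, finsum_eq_sum_of_fintype]

theorem exists_exponent {a b : ℕ} (ha : 0 < a) (hb : 0 < b) (h : Nat.Coprime a b) :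
    ∃ j, a ∣ j ∧ b ∣ j - 1 ∧ 1 ≤ j := by
  obtain ⟨m, hm0, hm1⟩ := Nat.chineseRemainder h 0 1
  have hN : 0 < a * b := Nat.mul_pos ha hb
  refine ⟨m + a * b, Nat.dvd_add (Nat.modEq_zero_iff_dvd.mp hm0) (dvd_mul_right _ _), ?_, by omega⟩
  refine (Nat.modEq_iff_dvd' (by omega)).mp (Nat.ModEq.symm (Nat.ModEq.trans ?_ hm1))
  exact ((Nat.modEq_iff_dvd' (by omega)).mpr
    (by rw [Nat.add_sub_cancel_left]; exact dvd_mul_left _ _)).symm

theorem mul_pow_right {z : G} {j : ℕ} (w : ↥(centralizer ({z} : Set G))) (h0 : orderOf z ∣ j)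
    (h1 : orderOf (w : G) ∣ j - 1) (hj : 1 ≤ j) : (z * (w : G)) ^ j = w := by
  have hc : Commute z (w : G) := (mem_centralizer_singleton_iff.mp w.2).symm
  rw [hc.mul_pow, orderOf_dvd_iff_pow_eq_one.mp h0, one_mul]
  obtain ⟨i, rfl⟩ : ∃ i, j = i + 1 := ⟨j - 1, by omega⟩
  rw [Nat.add_sub_cancel] at h1
  rw [pow_succ, orderOf_dvd_iff_pow_eq_one.mp h1, one_mul]

/-- A function supported on regular elements inside the principal block of `H`. -/
structure IsSecFun (p : ℕ) (M : Ideal Cfsg.AlgInt) {H : Type*} [Group H] [Fintype H] (f : H → ℂ) :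
    Prop where
  cls : Cfsg.IsClassFunction H f
  supp : ∀ h : H, p ∣ orderOf h → f h = 0
  orth : ∀ ψ : Cfsg.IrrCharacter H, ψ ∉ Cfsg.principalBlock M H →
    Cfsg.classInner (ψ : H → ℂ) f = 0

theorem classInner_eq_blockPart {H : Type*} [Group H] [Fintype H] {f g : H → ℂ}
    (hg : Cfsg.IsClassFunction H g) (hf : IsSecFun p M f) :
    Cfsg.classInner g f = Cfsg.classInner (Cfsg.blockPart (Cfsg.principalBlock M H) g) f := by
  classical
  have hb : Cfsg.blockPart (Cfsg.principalBlock M H) g =
      ∑ ψ ∈ Finset.univ.filter (· ∈ Cfsg.principalBlock M H),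
        Cfsg.classInner g ψ • (ψ : H → ℂ) := by
    funext h
    rw [Cfsg.blockPart, Finset.sum_apply, finsum_mem_eq_toFinset_sum]
    refine Finset.sum_congr ?_ fun ψ _ => ?_
    · ext ψ; simp
    · simp only [Pi.smul_apply, smul_eq_mul]
      rw [Subsingleton.elim (Fintype.ofFinite H) ‹Fintype H›]
  conv_lhs => rw [CharCore.eq_sum_classInner hg]
  rw [hb, CharCore.classInner_sum_left, CharCore.classInner_sum_left, Finset.sum_filter]
  refine Finset.sum_congr rfl fun ψ _ => ?_
  split_ifs with h
  · rfl
  · have := hf.orth ψ h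
    rw [CharCore.classInner_smul_left, this, mul_zero]

/-- The principal block of `C(z)` induces only the principal block. -/
theorem not_induced (hM : Cfsg.IsPModular p M) {z : G}
    {B : Set (Cfsg.IrrCharacter G)} (hB : B ≠ Cfsg.principalBlock M G) :
    ¬ Cfsg.IsInducedBlock M (centralizer ({z} : Set G))
      (Cfsg.principalBlock M ↥(centralizer ({z} : Set G))) B :=
  fun hind => hB (BlocksDefect.eq_principal_of_inducing hM hind)

/-- Multiplicities vanish outside the principal block. -/
theorem mult_eq_zero (hM : Cfsg.IsPModular p M) {z : G} {k : ℕ} (hz : orderOf z = p ^ k)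
    [Fintype ↥(centralizer ({z} : Set G))] {f : ↥(centralizer ({z} : Set G)) → ℂ}
    (hf : IsSecFun p M f) {χ : Cfsg.IrrCharacter G} (hχ : χ ∉ Cfsg.principalBlock M G) :
    mult z f χ = 0 := by
  classical
  have := BlocksCore.isPrime hM
  have hB : Cfsg.IsPBlock M (Cfsg.blockOf M (χ : G → ℂ)) := BlocksCore.isPBlock_blockOf χ
  have hne : Cfsg.blockOf M (χ : G → ℂ) ≠ Cfsg.principalBlock M G := fun e =>
    hχ (e ▸ BlocksCore.mem_blockOf_self χ)
  have hb : Cfsg.IsPBlock M (Cfsg.principalBlock M ↥(centralizer ({z} : Set G))) :=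
    BlocksCore.isPBlock_blockOf (BlocksDefect.oneIrr ↥(centralizer ({z} : Set G)))
  have h0 : mult z f χ = Cfsg.classInner (sec z χ) f := by
    rw [mult_def, Cfsg.classInner]; rfl
  rw [h0, classInner_eq_blockPart (isClassFunction_sec z χ) hf, Cfsg.classInner]
  refine mul_eq_zero_of_right _ (Finset.sum_eq_zero fun y _ => ?_)
  by_cases hy : p ∣ orderOf y
  · rw [hf.supp y hy, map_zero, mul_zero]
  · have := S0923.result p M hM z ⟨k, hz⟩ _ hB χ (BlocksCore.mem_blockOf_self χ) _ hb
      (not_induced hM hne) y hy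
    rw [show Cfsg.blockPart (Cfsg.principalBlock M ↥(centralizer ({z} : Set G))) (sec z χ) y = 0
      from this, zero_mul]

open Classical in
/-- The column sum of the multiplicities against a fixed element, expanded. -/
theorem sum_mult_conj_eq (z : G) [Fintype ↥(centralizer ({z} : Set G))]
    (f : ↥(centralizer ({z} : Set G)) → ℂ) (x : G) :
    ∑ χ : Cfsg.IrrCharacter G, mult z f χ * conj ((χ : G → ℂ) x) =
      (Nat.card ↥(centralizer ({z} : Set G)) : ℂ)⁻¹ *
        ∑ h : ↥(centralizer ({z} : Set G)), conj (f h) * (if IsConj (z * (h : G)) x then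
          (Nat.card (centralizer ({z * (h : G)} : Set G)) : ℂ) else 0) := by
  classical
  simp only [mult_def, mul_assoc, Finset.sum_mul]
  rw [← Finset.mul_sum, Finset.sum_comm]
  congr 1
  refine Finset.sum_congr rfl fun h _ => ?_
  rw [← BC86.col_orth (z * (h : G)) x, Finset.mul_sum]
  exact Finset.sum_congr rfl fun _ _ => by ring

/-- Nothing is seen at an element outside the section. -/
theorem sum_mult_conj_zero {z : G} [Fintype ↥(centralizer ({z} : Set G))]
    {f : ↥(centralizer ({z} : Set G)) → ℂ}
    (hf : IsSecFun p M f) (x : G)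
    (hx : ∀ h : ↥(centralizer ({z} : Set G)), ¬ p ∣ orderOf h → ¬ IsConj (z * (h : G)) x) :
    ∑ χ : Cfsg.IrrCharacter G, mult z f χ * conj ((χ : G → ℂ) x) = 0 := by
  rw [sum_mult_conj_eq]
  refine mul_eq_zero_of_right _ (Finset.sum_eq_zero fun h _ => ?_)
  by_cases hp : p ∣ orderOf h
  · rw [hf.supp h hp, map_zero, zero_mul]
  · rw [if_neg (hx h hp), mul_zero]

/-- The column sum of the multiplicities against an element of the section. -/
theorem sum_mult_conj {z : G} {k : ℕ} (hz : orderOf z = p ^ k)
    [Fintype ↥(centralizer ({z} : Set G))] {f : ↥(centralizer ({z} : Set G)) → ℂ}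
    (hf : IsSecFun p M f) (v : ↥(centralizer ({z} : Set G))) (hv : ¬ p ∣ orderOf v) :
    ∑ χ : Cfsg.IrrCharacter G, mult z f χ * conj ((χ : G → ℂ) (z * v)) = conj (f v) := by
  classical
  rw [sum_mult_conj_eq]
  have key : ∀ h : ↥(centralizer ({z} : Set G)), conj (f h) * (if IsConj (z * (h : G)) (z * v) then
      (Nat.card (centralizer ({z * (h : G)} : Set G)) : ℂ) else 0) =
      conj (f h) * (if IsConj h v then (Nat.card (centralizer ({h} : Set ↥(centralizer ({z} : Set G)))) : ℂ) else 0) := by
    intro h
    by_cases hp : p ∣ orderOf h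
    · rw [hf.supp h hp, map_zero, zero_mul, zero_mul]
    · congr 1
      have hw : ¬ p ∣ orderOf (h : G) := by rwa [Subgroup.orderOf_coe]
      have hv' : ¬ p ∣ orderOf (v : G) := by rwa [Subgroup.orderOf_coe]
      have hpp : ∀ n, ¬ p ∣ n → Nat.Coprime (p ^ k) n := fun n hn =>
        Nat.Coprime.pow_left k ((Nat.Prime.coprime_iff_not_dvd Fact.out).mpr hn)
      by_cases hc : IsConj h v
      · skip
        obtain ⟨x, hx⟩ := isConj_iff.mp hc
        have hxz : (x : G) * z = z * x := mem_centralizer_singleton_iff.mp x.2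
        have hG : IsConj (z * (h : G)) (z * (v : G)) := isConj_iff.mpr ⟨(x : G), by
          have hx' : (x : G) * h * (x : G)⁻¹ = v := congrArg Subtype.val hx
          rw [← hx', ← mul_assoc (x : G) z, hxz]
          group⟩
        simp only [if_pos hG, if_pos hc]
        congr 1
        have hsub : centralizer ({z * (h : G)} : Set G) ≤ centralizer ({z} : Set G) := by
          intro x hx
          rw [mem_centralizer_singleton_iff] at hx
          obtain ⟨j, hj0, hj1, hj2⟩ := exists_exponent (orderOf_pos (h : G))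
            (pow_pos (Nat.Prime.pos Fact.out) k) (hpp _ hw).symm
          have hc' : Commute z (h : G) := (mem_centralizer_singleton_iff.mp h.2).symm
          have hzj : (z * (h : G)) ^ j = z := by
            rw [hc'.mul_pow, orderOf_dvd_iff_pow_eq_one.mp hj0, mul_one]
            obtain ⟨i, rfl⟩ : ∃ i, j = i + 1 := ⟨j - 1, by omega⟩
            rw [Nat.add_sub_cancel] at hj1
            rw [pow_succ, orderOf_dvd_iff_pow_eq_one.mp (hz ▸ hj1), one_mul]
          rw [mem_centralizer_singleton_iff]
          have h' := ((show Commute (z * (h : G)) x from hx.symm).pow_left j).symm.eq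
          rwa [hzj] at h'
        refine Nat.card_congr
          { toFun := fun x => ⟨⟨x.1, hsub x.2⟩, ?_⟩
            invFun := fun x => ⟨(x.1 : G), ?_⟩
            left_inv := fun x => rfl
            right_inv := fun x => rfl }
        · have hx := mem_centralizer_singleton_iff.mp x.2
          have hxz : (x : G) * z = z * x := mem_centralizer_singleton_iff.mp (hsub x.2)
          rw [mem_centralizer_singleton_iff]
          refine Subtype.ext ?_
          show (x : G) * h = h * x
          rw [← mul_assoc, hxz, mul_assoc, mul_assoc] at hx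
          exact mul_left_cancel hx
        · have hx := congrArg Subtype.val (mem_centralizer_singleton_iff.mp x.2)
          push_cast at hx
          have hxz : (x.1 : G) * z = z * x.1 := mem_centralizer_singleton_iff.mp x.1.2
          rw [mem_centralizer_singleton_iff, ← mul_assoc, hxz, mul_assoc, hx, mul_assoc]
      · rw [if_neg hc, if_neg]
        intro h'
        obtain ⟨x, hx⟩ := isConj_iff.mp h'
        obtain ⟨j, hj0, hj1, hj2⟩ := exists_exponent (pow_pos (Nat.Prime.pos Fact.out) k)
          (Nat.mul_pos (orderOf_pos (h : G)) (orderOf_pos (v : G)))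
          ((hpp _ hw).mul_right (hpp _ hv'))
        have h2 : x * (h : G) * x⁻¹ = v := by
          have := congrArg (· ^ j) hx
          simp only [conj_pow, mul_pow_right h (hz ▸ hj0) ((dvd_mul_right _ _).trans hj1) hj2,
            mul_pow_right v (hz ▸ hj0) ((dvd_mul_left _ _).trans hj1) hj2] at this
          exact this
        have h1 : x * z * x⁻¹ = z := by
          have h3 : (x * z * x⁻¹) * (x * (h : G) * x⁻¹) = z * v := by rw [← hx]; group
          rw [h2] at h3
          exact mul_right_cancel h3
        refine hc (isConj_iff.mpr ⟨⟨x, mem_centralizer_singleton_iff.mpr ?_⟩, Subtype.ext h2⟩)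
        calc x * z = (x * z * x⁻¹) * x := by group
          _ = z * x := by rw [h1]
  rw [Finset.sum_congr rfl fun h _ => key h]
  have hcl : ∀ h : ↥(centralizer ({z} : Set G)), conj (f h) *
      (if IsConj h v then (Nat.card (centralizer ({h} : Set ↥(centralizer ({z} : Set G)))) : ℂ) else 0) =
      conj (f v) * (if IsConj h v then (Nat.card (centralizer ({h} : Set ↥(centralizer ({z} : Set G)))) : ℂ) else 0) := by
    intro h
    split_ifs with hc
    · obtain ⟨x, hx⟩ := isConj_iff.mp hc
      rw [← hx, hf.cls]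
    · simp
  rw [Finset.sum_congr rfl fun h _ => hcl h, ← Finset.mul_sum]
  have hcount : ∑ h : ↥(centralizer ({z} : Set G)), (if IsConj h v then (Nat.card (centralizer ({h} : Set ↥(centralizer ({z} : Set G)))) : ℂ) else 0) =
      Nat.card ↥(centralizer ({z} : Set G)) := by
    have h1 := SmallGroups.SelfCent.sum_isConj_mul_card v Finset.univ
    simp only [Finset.mem_univ, Finset.filter_true] at h1
    rw [Nat.card_eq_fintype_card, ← Finset.card_univ, ← h1, Nat.cast_sum]
    refine Finset.sum_congr rfl fun h _ => ?_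
    by_cases hc : IsConj h v
    · simp only [if_pos hc, if_pos hc.symm]
      rw [BlocksDefect.natCard_centralizer_of_isConj hc]
    · simp only [if_neg hc, if_neg (fun q => hc (IsConj.symm q)), Nat.cast_zero]
  rw [hcount]
  field_simp

end Cfsg.Agent.CD88
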