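import Cfsg.Agent.CD88.OrderEightSplit
import Cfsg.Agent.CD88.Section

/-!
# The elementary abelian Sylow 2-subgroup of order eight
-/

set_option autoImplicit false
set_option linter.all false
set_option maxHeartbeats 800000

namespace Cfsg.Agent.CD88

open Subgroup Finset
open scoped ComplexConjugate

universe u

/-- The arithmetic of three rows of signs against a constant difference. -/
theorem orderEight_core {ι : Type*} (s : Finset ι) (n : ι → ℤ) (b : Fin 3 → ι → ℤ) (k : ℤ)
    (hk : 0 < k) (hn : ∀ i, 1 + ∑ χ ∈ s, b i χ * n χ = 0)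
    (hsq : ∀ i, ∑ χ ∈ s, b i χ * b i χ = 3)
    (hsum : k * ∑ i, ∑ χ ∈ s, b i χ = -8)
    (hx : ∀ χ ∈ s, 2 * (n χ - k) = -∑ i, (2 + k * ∑ ψ ∈ s, b i ψ) * b i χ)
    (h7 : 3 ≤ k → ∀ χ ∈ s, 7 ≤ n χ) : False := by
  obtain ⟨S, hS⟩ : ∃ S : Fin 3 → ℤ, ∀ i, ∑ χ ∈ s, b i χ = S i := ⟨_, fun i => rfl⟩
  simp only [hS] at hsum hx
  have hodd : ∀ i, S i % 2 = 1 := fun i => by
    have h2 : (2 : ℤ) ∣ ∑ χ ∈ s, (b i χ * b i χ - b i χ) := Finset.dvd_sum fun χ _ => by
      have he := Int.even_mul_pred_self (b i χ)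
      rw [mul_sub, mul_one] at he
      exact even_iff_two_dvd.mp he
    rw [Finset.sum_sub_distrib, hsq, hS] at h2
    omega
  have hk8 : k = 8 ∧ S 0 + S 1 + S 2 = -1 := by
    simp only [Fin.sum_univ_three] at hsum
    have h0 := hodd 0
    have h1 := hodd 1
    have h2 := hodd 2
    have hkd : k ∣ 8 := ⟨-(S 0 + S 1 + S 2), by linarith⟩
    have hk8 : k ≤ 8 := Int.le_of_dvd (by norm_num) hkd
    interval_cases k <;> omega
  obtain ⟨rfl, hT⟩ := hk8
  have hx' : ∀ χ ∈ s, n χ - 8 = -∑ i, (1 + 4 * S i) * b i χ := fun χ hχ => by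
    have := hx χ hχ
    simp only [Fin.sum_univ_three] at this ⊢
    linarith
  have hsum' : ∀ c : ι → ℤ, ∑ χ ∈ s, (n χ - 8) * c χ =
      -∑ i, (1 + 4 * S i) * ∑ χ ∈ s, b i χ * c χ := fun c => by
    simp only [Finset.mul_sum]
    rw [Finset.sum_comm, ← Finset.sum_neg_distrib]
    refine Finset.sum_congr rfl fun χ hχ => ?_
    rw [hx' χ hχ, neg_mul, Finset.sum_mul]
    exact congrArg Neg.neg (Finset.sum_congr rfl fun i _ => by ring)
  have hxn : ∑ χ ∈ s, (n χ - 8) * n χ = -1 := by
    rw [hsum', Fin.sum_univ_three]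
    have h0 : ∀ i, ∑ χ ∈ s, b i χ * n χ = -1 := fun i => by linarith [hn i]
    rw [h0, h0, h0]
    linarith
  have hxb : ∀ i, ∑ χ ∈ s, b i χ * (n χ - 8) = -1 - 8 * S i := fun i => by
    simp only [mul_sub, Finset.sum_sub_distrib, ← Finset.sum_mul, hS]
    linarith [hn i]
  have hxx : 87 ≤ ∑ χ ∈ s, (n χ - 8) * (n χ - 8) := by
    rw [hsum', Fin.sum_univ_three, hxb, hxb, hxb]
    have h : ∀ i, 1 ≤ S i * S i := fun i => by
      have h0 : S i ≠ 0 := by have := hodd i; omega
      nlinarith [mul_self_pos.mpr h0]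
    nlinarith [h 0, h 1, h 2]
  have hlow : ∀ χ ∈ s, -∑ i, b i χ * b i χ ≤ n χ - 8 := by
    intro χ hχ
    have h1 := h7 (by norm_num) χ hχ
    by_cases hz : ∀ i, b i χ = 0
    · have := hx' χ hχ
      simp [hz] at this ⊢
      omega
    · simp only [not_forall] at hz
      obtain ⟨i, hi⟩ := hz
      have h2 := Finset.single_le_sum (fun j _ => mul_self_nonneg (b j χ)) (Finset.mem_univ i)
      have h3 := mul_self_pos.mpr hi
      omega
  have h9 : -9 ≤ ∑ χ ∈ s, (n χ - 8) := by
    refine le_trans (le_of_eq ?_) (Finset.sum_le_sum hlow)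
    rw [Finset.sum_neg_distrib, Finset.sum_comm, Fin.sum_univ_three, hsq, hsq, hsq]
    norm_num
  have hsplit : ∑ χ ∈ s, (n χ - 8) * n χ =
      ∑ χ ∈ s, (n χ - 8) * (n χ - 8) + 8 * ∑ χ ∈ s, (n χ - 8) := by
    rw [Finset.mul_sum, ← Finset.sum_add_distrib]
    exact Finset.sum_congr rfl fun χ _ => by ring
  omega

theorem orderEight : OrderEightStmt.{u} := by
  intro G _ _ M hM P hP hone h8 z hz hns v hv k hk hC h7
  classical
  haveI : Fact (Nat.Prime 2) := ⟨Nat.prime_two⟩
  haveI := Fintype.ofFinite G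
  haveI := BlocksCore.isPrime hM
  haveI := Fintype.ofFinite ↥(centralizer ({z} : Set G))
  have hzz : z * z = 1 ∧ z ≠ 1 := Involution.orderOf_eq_two_iff'.mp hz
  -- the Sylow subgroup of the centraliser
  obtain ⟨P', hP'⟩ := (IsPGroup.of_card (p := 2) (n := 1)
    (by rw [Nat.card_zpowers, hz]; rfl) : IsPGroup 2 (zpowers z)).exists_le_sylow
  obtain ⟨d, hd⟩ := MulAction.exists_smul_eq G P' P
  have hsq : ∀ y ∈ (P' : Subgroup G), y * y = 1 := fun y hy => by
    have hy' : d * y * d⁻¹ ∈ (P : Subgroup G) := hd ▸ Involution.conj_mem_sylow_smul d hy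
    have := hP _ hy'
    rw [show d * y * d⁻¹ * (d * y * d⁻¹) = d * (y * y) * d⁻¹ by group] at this
    exact conj_eq_one_iff.mp this
  have hzP : z ∈ (P' : Subgroup G) := hP' (mem_zpowers z)
  have hle : (P' : Subgroup G) ≤ centralizer ({z} : Set G) := fun y hy => by
    have h1 := hsq _ (mul_mem hy hzP)
    rw [mem_centralizer_singleton_iff]
    calc y * z = (y * z)⁻¹ := eq_inv_of_mul_eq_one_right h1
      _ = z * y := by
        rw [mul_inv_rev, inv_eq_of_mul_eq_one_right (hsq z hzP),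
          inv_eq_of_mul_eq_one_right (hsq y hy)]
  set zH : ↥(centralizer ({z} : Set G)) := ⟨z, hle hzP⟩
  have hQ : Nat.card (P'.subtype hle : Subgroup ↥(centralizer ({z} : Set G))) = 8 := by
    rw [← h8]
    exact (Nat.card_congr (Subgroup.subgroupOfEquivOfLe hle).toEquiv).trans
      (Nat.card_congr (Sylow.equiv P' P).toEquiv)
  obtain ⟨K, hK, hnsK, T, hT, hTsq⟩ := exists_split (z := zH) (P'.subtype hle) hQ
    (fun x hx => Subtype.ext (hsq x hx)) hzP (fun e => hzz.2 (congrArg Subtype.val e))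
    (fun h => Subtype.ext (mem_centralizer_singleton_iff.mp h.2)) hns
  haveI := Fintype.ofFinite K
  obtain ⟨ξ, s, hb⟩ := exists_kleinBlock hM T hT hTsq hnsK
  have hz2 : orderOf z = 2 ^ 1 := by rw [hz, pow_one]
  -- the three functions
  let F : Fin 3 → K → ℂ := fun i =>
    (BlocksDefect.oneIrr K : K → ℂ) - (s i : ℂ) • (ξ i : K → ℂ)
  have hFapp : ∀ i x, F i x = 1 - (s i : ℂ) * (ξ i : K → ℂ) x := fun i x => rfl
  have hFgen : ∀ i, Cfsg.IsGeneralizedCharacter K (F i) := fun i =>
    CharCore.isGeneralized_sub (CharCore.irr_isGeneralized _)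
      (CharCore.isGeneralized_intCast_smul (CharCore.irr_isGeneralized _) _)
  have hinner : ∀ i (θ : Cfsg.IrrCharacter K), Cfsg.classInner (θ : K → ℂ) (F i) =
      (if θ = BlocksDefect.oneIrr K then 1 else 0) - (s i : ℂ) * (if θ = ξ i then 1 else 0) := by
    intro i θ
    rw [CharCore.classInner_sub_right, CharCore.classInner_smul_right, CharCore.classInner_irr,
      CharCore.classInner_irr, map_intCast]
  have hFsing : ∀ i (x : K), 2 ∣ orderOf x → F i x = 0 := fun i x hx => by
    rw [hFapp, hb.sing x hx i, sub_self]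
  have hFF : ∀ i, Cfsg.classInner (F i) (F i) = 2 := fun i => by
    show Cfsg.classInner ((BlocksDefect.oneIrr K : K → ℂ) - (s i : ℂ) • (ξ i : K → ℂ)) (F i) = 2
    rw [CharCore.classInner_sub_left, CharCore.classInner_smul_left, hinner, hinner,
      if_pos rfl, if_neg (hb.ne_one i).symm, if_neg (hb.ne_one i), if_pos rfl]
    have : (s i : ℂ) * (s i : ℂ) = 1 := by exact_mod_cast hb.sgn i
    linear_combination this
  have hout : ∀ i (ψ : Cfsg.IrrCharacter ↥(centralizer ({z} : Set G))),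
      ψ ∉ Cfsg.principalBlock M ↥(centralizer ({z} : Set G)) →
      Cfsg.classInner (hK.res ψ : K → ℂ) (F i) = 0 := fun i ψ hψ => by
    have hn : hK.res ψ ∉ Cfsg.principalBlock M K := fun h' =>
      hψ ((hK.mem_principal_iff hM ψ).mpr h')
    rw [hinner, if_neg (fun e : hK.res ψ = BlocksDefect.oneIrr K => hn (e ▸ BlocksDefect.oneIrr_mem)),
      if_neg (fun e : hK.res ψ = ξ i => hn (e ▸ hb.block i))]
    simp
  have hsec : ∀ i, IsSecFun 2 M (ext0 K (F i)) := fun i =>
    { cls := hK.isClassFunction_ext0 (CharCore.IsGeneralizedCharacter.isClassFunction (hFgen i))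
      supp := fun x hx => by
        by_cases hxK : x ∈ K
        · rw [show x = ((⟨x, hxK⟩ : K) : ↥(centralizer ({z} : Set G))) from rfl, ext0_mem]
          exact hFsing i _ (by rwa [← Subgroup.orderOf_coe])
        · exact ext0_notMem _ hxK
      orth := fun ψ hψ => by
        rw [hK.classInner_ext0]
        exact mul_eq_zero_of_right _ (hout i ψ hψ) }
  -- the multiplicities
  let B : Fin 3 → Cfsg.IrrCharacter G → ℂ := fun i χ =>
    Cfsg.classInner (fun x : K => sec z χ x) (F i)
  have hBmult : ∀ i χ, mult z (ext0 K (F i)) χ = 2⁻¹ * B i χ := fun i χ => by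
    rw [← hK.classInner_ext0, mult_def, Cfsg.classInner]
    rfl
  have hBint : ∀ i χ, ∃ m : ℤ, B i χ = m := by
    intro i χ
    refine CharCore.IsGeneralizedCharacter.exists_classInner_eq_intCast ?_ (hFgen i)
    obtain ⟨m, hm⟩ := CharCore.IsGeneralizedCharacter.exists_sum
      (CharCore.isGeneralized_restrict (CharCore.irr_isGeneralized χ)
        (centralizer ({z} : Set G)))
    choose ε hε hεmul using hK.exists_sign
    have he : (fun x : K => sec z χ x) =
        ∑ ψ, ((m ψ * ε ψ : ℤ) : ℂ) • (hK.res ψ : K → ℂ) := by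
      funext x
      have h1 := congrFun hm (zH * (x : ↥(centralizer ({z} : Set G))))
      rw [Finset.sum_apply] at h1
      rw [Finset.sum_apply]
      refine h1.trans (Finset.sum_congr rfl fun ψ _ => ?_)
      simp only [Pi.smul_apply, smul_eq_mul, hεmul ψ, hK.res_apply]
      push_cast
      ring
    rw [he]
    exact CharCore.isGeneralized_sum _ _ fun ψ _ =>
      CharCore.isGeneralized_intCast_smul (CharCore.irr_isGeneralized _) _
  choose b hbB using hBint
  have hB0 : ∀ i χ, χ ∉ Cfsg.principalBlock M G → (b i χ : ℂ) = 0 := fun i χ hχ => by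
    have h := mult_eq_zero hM hz2 (hsec i) hχ
    rw [hBmult, hbB] at h
    simpa using h
  have hcol : ∀ i (x : K), ¬ 2 ∣ orderOf x →
      ∑ χ : Cfsg.IrrCharacter G, (b i χ : ℂ) * conj (sec z χ x) = 2 * conj (F i x) := by
    intro i x hx
    have h := sum_mult_conj hz2 (hsec i) (x : ↥(centralizer ({z} : Set G)))
      (by rwa [Subgroup.orderOf_coe])
    simp only [hBmult, hbB, ext0_mem, mul_assoc, ← Finset.mul_sum] at h
    exact (inv_mul_eq_iff_eq_mul₀ two_ne_zero).mp h
  have hcol1 : ∀ i, ∑ χ : Cfsg.IrrCharacter G, (b i χ : ℂ) * conj ((χ : G → ℂ) 1) = 0 := by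
    intro i
    have h := sum_mult_conj_zero (hsec i) 1 fun h' hh' hc => by
      have h1 : z * (h' : G) = 1 := isConj_one_left.mp hc
      refine hh' ?_
      rw [← Subgroup.orderOf_coe, show (h' : G) = z⁻¹ from eq_inv_of_mul_eq_one_right h1,
        orderOf_inv, hz]
    simp only [hBmult, hbB, mul_assoc, ← Finset.mul_sum] at h
    simpa using h
  have hnorm : ∀ i, ∑ χ : Cfsg.IrrCharacter G, (b i χ : ℂ) * (b i χ : ℂ) = 4 := by
    intro i
    have hc : ∀ χ, (b i χ : ℂ) =
        (Nat.card K : ℂ)⁻¹ * ∑ x : K, F i x * conj (sec z χ x) := fun χ => by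
      rw [← CharCore.classInner_def, ← CharCore.conj_classInner,
        show Cfsg.classInner (fun x : K => sec z χ x) (F i) = (b i χ : ℂ) from hbB i χ, map_intCast]
    calc ∑ χ : Cfsg.IrrCharacter G, (b i χ : ℂ) * (b i χ : ℂ)
        = ∑ χ : Cfsg.IrrCharacter G, (b i χ : ℂ) *
            ((Nat.card K : ℂ)⁻¹ * ∑ x : K, F i x * conj (sec z χ x)) :=
          Finset.sum_congr rfl fun χ _ => congrArg _ (hc χ)
      _ = (Nat.card K : ℂ)⁻¹ * ∑ x : K, F i x *
            ∑ χ : Cfsg.IrrCharacter G, (b i χ : ℂ) * conj (sec z χ x) := by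
          simp only [Finset.mul_sum]
          rw [Finset.sum_comm]
          exact Finset.sum_congr rfl fun _ _ => Finset.sum_congr rfl fun _ _ => by ring
      _ = (Nat.card K : ℂ)⁻¹ * ∑ x : K, 2 * (F i x * conj (F i x)) := by
          congr 1
          refine Finset.sum_congr rfl fun x _ => ?_
          by_cases hx : 2 ∣ orderOf x
          · rw [hFsing i x hx]; simp
          · rw [hcol i x hx]; ring
      _ = 4 := by
          rw [← Finset.mul_sum, mul_left_comm, ← CharCore.classInner_def, hFF]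
          norm_num
  have hbone : ∀ i, b i (BlocksDefect.oneIrr G) = 1 := fun i => by
    have h := hbB i (BlocksDefect.oneIrr G)
    rw [show B i (BlocksDefect.oneIrr G) =
      Cfsg.classInner (BlocksDefect.oneIrr K : K → ℂ) (F i) from rfl, hinner, if_pos rfl,
      if_neg (hb.ne_one i).symm, mul_zero, sub_zero] at h
    exact_mod_cast h.symm
  -- the element v
  have hvK : v ∈ K := by
    obtain ⟨m, hm⟩ := exists_pow_eq_self_of_coprime (x := v) (n := 2)
      ((Nat.Prime.coprime_iff_not_dvd Nat.prime_two).mpr hv)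
    exact hm ▸ pow_mem (Subgroup.sq_mem_of_index_two hK.idx v) m
  set w : K := ⟨v, hvK⟩
  have hw : ¬ 2 ∣ orderOf w := by rwa [← Subgroup.orderOf_coe]
  let y : Fin 3 → ℂ := fun i => (s i : ℂ) * (ξ i : K → ℂ) w
  have hy : 1 + ∑ i, y i = 0 := hb.rel w hw
  have hexp : ∀ χ ∈ Cfsg.principalBlock M G, (χ : G → ℂ) (z * v) + ∑ i, y i * b i χ = 0 := by
    intro χ hχ
    have hcls := isClassFunction_sec z χ
    have h1 := BlocksDefect.principal_apply_section hM hz2 hχ v hv
    have h2 : Cfsg.blockPart (Cfsg.principalBlock M ↥(centralizer ({z} : Set G))) (sec z χ) v =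
        (χ : G → ℂ) (z * v) := by
      rw [BlocksCore.blockPart_eq_sum_blockCoeff _ hcls, ← h1]
      refine Finset.sum_congr rfl fun c _ => ?_
      show _ * (χ : G → ℂ) (z * ((c * v : ↥(centralizer ({z} : Set G))) : G)) = _
      rw [Subgroup.coe_mul, ← mul_assoc, ← mul_assoc, mem_centralizer_singleton_iff.mp c.2]
    have hpart : Cfsg.blockPart (Cfsg.principalBlock M ↥(centralizer ({z} : Set G))) (sec z χ) v =
        ∑ θ : Cfsg.IrrCharacter ↥(centralizer ({z} : Set G)),
          if θ ∈ Cfsg.principalBlock M ↥(centralizer ({z} : Set G)) then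
            Cfsg.classInner (sec z χ) θ * (θ : ↥(centralizer ({z} : Set G)) → ℂ) v else 0 := by
      rw [Cfsg.blockPart, finsum_mem_def, finsum_eq_sum_of_fintype]
      refine Finset.sum_congr rfl fun θ _ => ?_
      by_cases hθ : θ ∈ Cfsg.principalBlock M ↥(centralizer ({z} : Set G))
      · rw [Set.indicator_of_mem hθ, if_pos hθ]
        congr!
      · rw [Set.indicator_of_notMem hθ, if_neg hθ]
    have hb' : ∀ i, (b i χ : ℂ) = ∑ θ : Cfsg.IrrCharacter ↥(centralizer ({z} : Set G)),
        Cfsg.classInner (sec z χ) θ * Cfsg.classInner (hK.res θ : K → ℂ) (F i) := by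
      intro i
      rw [← hbB]
      show Cfsg.classInner (fun x : K => sec z χ x) (F i) = _
      have he : (fun x : K => sec z χ x) =
          ∑ θ : Cfsg.IrrCharacter ↥(centralizer ({z} : Set G)),
            Cfsg.classInner (sec z χ) θ • (hK.res θ : K → ℂ) := by
        funext x
        have h := congrFun (CharCore.eq_sum_classInner hcls) (x : ↥(centralizer ({z} : Set G)))
        rw [Finset.sum_apply] at h ⊢
        exact h
      rw [he, CharCore.classInner_sum_left]
      exact Finset.sum_congr rfl fun θ _ => CharCore.classInner_smul_left _ _ _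
    rw [← h2, hpart]
    simp only [hb', Finset.mul_sum]
    rw [Finset.sum_comm, ← Finset.sum_add_distrib]
    refine Finset.sum_eq_zero fun θ _ => ?_
    by_cases hθ : θ ∈ Cfsg.principalBlock M ↥(centralizer ({z} : Set G))
    · rw [if_pos hθ]
      have hval : (θ : ↥(centralizer ({z} : Set G)) → ℂ) v +
          ∑ i, y i * Cfsg.classInner (hK.res θ : K → ℂ) (F i) = 0 := by
        show (hK.res θ : K → ℂ) w + _ = _
        simp only [hinner]
        rcases hb.mem _ ((hK.mem_principal_iff hM θ).mp hθ) with e | ⟨j, e⟩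
        · simp only [e, if_pos, if_neg (hb.ne_one _).symm, mul_zero, sub_zero, mul_one]
          exact hy
        · have hs : (s j : ℂ) * (s j : ℂ) = 1 := by exact_mod_cast hb.sgn j
          simp only [e, if_neg (hb.ne_one j), hb.inj.eq_iff, mul_ite, mul_one, mul_zero, zero_sub,
            mul_neg, Finset.sum_neg_distrib, Finset.sum_ite_eq, Finset.mem_univ, if_true, y]
          linear_combination (-(ξ j : K → ℂ) w) * hs
      calc Cfsg.classInner (sec z χ) θ * (θ : ↥(centralizer ({z} : Set G)) → ℂ) v +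
            ∑ i, y i * (Cfsg.classInner (sec z χ) θ *
              Cfsg.classInner (hK.res θ : K → ℂ) (F i))
          = Cfsg.classInner (sec z χ) θ * ((θ : ↥(centralizer ({z} : Set G)) → ℂ) v +
              ∑ i, y i * Cfsg.classInner (hK.res θ : K → ℂ) (F i)) := by
            rw [mul_add, Finset.mul_sum]
            congr 1
            exact Finset.sum_congr rfl fun i _ => by ring
        _ = 0 := by rw [hval, mul_zero]
    · rw [if_neg hθ, zero_add]
      exact Finset.sum_eq_zero fun i _ => by rw [hout i θ hθ, mul_zero, mul_zero]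
  -- the integers
  choose n hnpos hn using fun χ : Cfsg.IrrCharacter G => CharCore.IsIrrCharacter.exists_degree χ.2
  let S : Finset (Cfsg.IrrCharacter G) := Finset.univ.filter fun χ =>
    χ ∈ Cfsg.principalBlock M G ∧ χ ≠ BlocksDefect.oneIrr G
  have hsplit : ∀ i (g : Cfsg.IrrCharacter G → ℂ), ∑ χ : Cfsg.IrrCharacter G, (b i χ : ℂ) * g χ =
      g (BlocksDefect.oneIrr G) + ∑ χ ∈ S, (b i χ : ℂ) * g χ := by
    intro i g
    rw [← Finset.add_sum_erase _ _ (Finset.mem_univ (BlocksDefect.oneIrr G)), hbone,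
      Int.cast_one, one_mul]
    congr 1
    refine (Finset.sum_subset (fun χ hχ => ?_) fun χ h1 h2 => ?_).symm
    · exact Finset.mem_erase.mpr ⟨(Finset.mem_filter.mp hχ).2.2, Finset.mem_univ _⟩
    · rw [hB0 i χ fun hB => h2 (Finset.mem_filter.mpr
        ⟨Finset.mem_univ _, hB, (Finset.mem_erase.mp h1).1⟩), zero_mul]
  have hval : ∀ χ ∈ S, (χ : G → ℂ) (z * v) = (((n χ : ℤ) - k : ℤ) : ℂ) := by
    intro χ hχ
    obtain ⟨hB, hne⟩ := (Finset.mem_filter.mp hχ).2
    have := hC χ hB fun e => hne (Subtype.ext e)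
    rw [hn] at this
    push_cast
    linear_combination (-1 : ℂ) * this
  have hn0 : ∀ i, (1 : ℤ) + ∑ χ ∈ S, b i χ * (n χ : ℤ) = 0 := fun i => by
    have h := hcol1 i
    simp only [hn, map_natCast] at h
    rw [hsplit] at h
    have h1 : (n (BlocksDefect.oneIrr G) : ℂ) = 1 := (hn _).symm
    rw [h1] at h
    exact_mod_cast h
  have hsq3 : ∀ i, ∑ χ ∈ S, b i χ * b i χ = 3 := fun i => by
    have h := hnorm i
    rw [hsplit i fun χ => (b i χ : ℂ), hbone] at h
    have h' : ((1 + ∑ χ ∈ S, b i χ * b i χ : ℤ) : ℂ) = ((4 : ℤ) : ℂ) := by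
      push_cast
      simpa using h
    have := Int.cast_injective h'
    linarith
  have hy2 : ∀ i, 2 * y i = ((2 + (k : ℤ) * ∑ χ ∈ S, b i χ : ℤ) : ℂ) := by
    intro i
    have h := hcol i w hw
    rw [hsplit i fun χ => conj (sec z χ w)] at h
    have h1 : conj (sec z (BlocksDefect.oneIrr G) w) = 1 := map_one _
    have h2 : ∀ χ ∈ S, (b i χ : ℂ) * conj (sec z χ w) =
        ((b i χ * (n χ : ℤ) - b i χ * (k : ℤ) : ℤ) : ℂ) := fun χ hχ => by
      rw [show sec z χ w = (χ : G → ℂ) (z * v) from rfl, hval χ hχ, map_intCast]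
      push_cast
      ring
    rw [h1, Finset.sum_congr rfl h2, ← Int.cast_sum, Finset.sum_sub_distrib,
      ← Finset.sum_mul, show (∑ χ ∈ S, b i χ * (n χ : ℤ)) = -1 by linarith [hn0 i]] at h
    have h' := congrArg conj h
    simp only [map_add, map_one, map_intCast, map_mul, map_ofNat, Complex.conj_conj, hFapp] at h'
    simp only [y]
    push_cast at h' ⊢
    linear_combination h'
  refine orderEight_core S (fun χ => (n χ : ℤ)) b k (by exact_mod_cast hk) hn0 hsq3 ?_ ?_ ?_
  · have h := congrArg (fun t : ℂ => 2 * t) hy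
    simp only [mul_add, mul_zero, mul_one] at h
    rw [Finset.mul_sum, Finset.sum_congr rfl fun i _ => hy2 i] at h
    have h' : ((2 + ∑ i, (2 + (k : ℤ) * ∑ χ ∈ S, b i χ) : ℤ) : ℂ) = ((0 : ℤ) : ℂ) := by
      push_cast at h ⊢
      exact h
    have h'' := Int.cast_injective h'
    simp only [Fin.sum_univ_three] at h'' ⊢
    linarith
  · intro χ hχ
    have h := hexp χ (Finset.mem_filter.mp hχ).2.1
    rw [hval χ hχ] at h
    have h' : ((2 * ((n χ : ℤ) - k) : ℤ) : ℂ) =
        ((-∑ i, (2 + (k : ℤ) * ∑ ψ ∈ S, b i ψ) * b i χ : ℤ) : ℂ) := by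
      have e : ∀ i, (((2 + (k : ℤ) * ∑ ψ ∈ S, b i ψ) * b i χ : ℤ) : ℂ) = 2 * (y i * b i χ) :=
        fun i => by rw [Int.cast_mul, ← hy2]; ring
      rw [Int.cast_neg, Int.cast_sum, Finset.sum_congr rfl fun i _ => e i, ← Finset.mul_sum]
      push_cast at h ⊢
      linear_combination 2 * h
    exact Int.cast_injective h'
  · intro h3 χ hχ
    obtain ⟨hB, hne⟩ := (Finset.mem_filter.mp hχ).2
    have h := h7 (by exact_mod_cast h3) χ hB fun e => hne (Subtype.ext e)
    rw [hn, Complex.natCast_re] at h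
    show (7 : ℤ) ≤ (n χ : ℤ)
    exact_mod_cast h

end Cfsg.Agent.CD88
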