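import Cfsg.Agent.CD88.Main
import Cfsg.Agent.CD88.Centraliser
import Cfsg.Agent.CD88.OrderEight

/-!
# S4514: assembly of the group-theoretic pieces
-/

set_option autoImplicit false

namespace Cfsg.Agent.CD88

universe u

theorem centStmt : CentStmt.{u} := fun _ _ _ F _ _ n hn hF e _ hz _ hc hv =>
  centraliser_trivial F n hn hF e hz hc hv

theorem assemble (hdeg : DegreeStmt.{u}) {G : Type u} [Group G] [Finite G] {M : Ideal Cfsg.AlgInt}
    (hM : Cfsg.IsPModular 2 M) (g : G) :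
    (∃ k : ℂ, Const M g k) ↔
      (g ∈ Cfsg.oddCore G ∨ (Nat.card (G ⧸ Cfsg.oddCore G) = 2 ∧ g ∉ Cfsg.oddCore G) ∨
        (∃ (F : Type) (_ : Field F) (_ : Fintype F) (n : ℕ), 2 ≤ n ∧ Fintype.card F = 2 ^ n ∧
          Nonempty (G ⧸ Cfsg.oddCore G ≃* Matrix.ProjectiveSpecialLinearGroup (Fin 2) F) ∧
            g ∉ Cfsg.oddCore G ∧ g ^ 2 ∈ Cfsg.oddCore G)) :=
  main GW66.klein hdeg orderEight centStmt hM g

end Cfsg.Agent.CD88
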