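import Cfsg.Agent.CD88.Interfaces
import Cfsg.Agent.CD88.Section
import Cfsg.Agent.Lib.BlocksCore.SecondMain
import Cfsg.Agent.Lib.BlocksCore.Height
import Cfsg.Agent.Lib.BlocksCore.KleinBlock

/-!
# S4514: first consequences of a constant `χ 1 - χ g` on the principal 2-block
-/

set_option autoImplicit false
set_option maxHeartbeats 400000

namespace Cfsg.Agent.CD88

open Subgroup Finset
open scoped ComplexConjugate

universe u

variable {G : Type u} [Group G] [Finite G] {M : Ideal Cfsg.AlgInt}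

open Classical in
/-- The non-principal members of the principal block. -/
noncomputable def npr (M : Ideal Cfsg.AlgInt) (G : Type u) [Group G] [Finite G] :
    Finset (Cfsg.IrrCharacter G) :=
  Finset.univ.filter fun χ => χ ∈ Cfsg.principalBlock M G ∧ (χ : G → ℂ) ≠ fun _ => 1

theorem mem_npr {χ : Cfsg.IrrCharacter G} :
    χ ∈ npr M G ↔ χ ∈ Cfsg.principalBlock M G ∧ (χ : G → ℂ) ≠ fun _ => 1 := by
  classical
  simp [npr]

theorem finsum_principal [M.IsPrime] (f : Cfsg.IrrCharacter G → ℂ) :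
    ∑ᶠ χ ∈ Cfsg.principalBlock M G, f χ =
      f (BlocksDefect.oneIrr G) + ∑ χ ∈ npr M G, f χ := by
  classical
  rw [finsum_mem_eq_toFinset_sum]
  have h : (Cfsg.principalBlock M G).toFinset = insert (BlocksDefect.oneIrr G) (npr M G) := by
    ext χ
    simp only [Set.mem_toFinset, Finset.mem_insert, mem_npr]
    constructor
    · intro h
      by_cases h1 : (χ : G → ℂ) = fun _ => 1
      · exact Or.inl (Subtype.ext h1)
      · exact Or.inr ⟨h, h1⟩
    · rintro (rfl | ⟨h, -⟩)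
      · exact BlocksDefect.oneIrr_mem
      · exact h
  rw [h, Finset.sum_insert]
  rw [mem_npr]
  exact fun h => h.2 rfl

theorem oneIrr_apply (g : G) : (BlocksDefect.oneIrr G : G → ℂ) g = 1 := rfl

/-- The identity behind everything: any weight on the block, against `χ 1 - χ g`. -/
theorem weight_eq [M.IsPrime] {g : G} {k : ℂ} (hk : Const M g k)
    (w : Cfsg.IrrCharacter G → ℂ) :
    (∑ᶠ χ ∈ Cfsg.principalBlock M G, (χ : G → ℂ) 1 * w χ) -
      (∑ᶠ χ ∈ Cfsg.principalBlock M G, (χ : G → ℂ) g * w χ) = k * ∑ χ ∈ npr M G, w χ := by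
  rw [finsum_principal, finsum_principal, oneIrr_apply, oneIrr_apply, add_sub_add_left_eq_sub,
    ← Finset.sum_sub_distrib, Finset.mul_sum]
  refine Finset.sum_congr rfl fun χ hχ => ?_
  rw [← sub_mul, hk χ (mem_npr.mp hχ).1 (mem_npr.mp hχ).2]

/-- Orthogonality in the block between elements with non-conjugate 2-parts. -/
theorem orth_principal (hM : Cfsg.IsPModular 2 M) {g h x y : G} (hx : Cfsg.IsPPart 2 g x)
    (hy : Cfsg.IsPPart 2 h y) (hxy : ¬ IsConj x y) :
    ∑ᶠ χ ∈ Cfsg.principalBlock M G, (χ : G → ℂ) g * conj ((χ : G → ℂ) h) = 0 := by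
  haveI := Fintype.ofFinite G
  rw [← BlocksCore.blockOrth_sections hM BlocksDefect.isPBlock_principal hx hy hxy]
  exact finsum_congr fun χ => finsum_congr fun _ => by rw [BlocksCore.conj_irr]

theorem isPPart_self {t : G} {a : ℕ} (ht : orderOf t = 2 ^ a) : Cfsg.IsPPart 2 t t :=
  ⟨1, mul_one t, Commute.one_right t, ⟨a, ht⟩, by simp⟩

theorem isPPart_one : Cfsg.IsPPart 2 (1 : G) 1 := isPPart_self (a := 0) (by simp)

/-- `χ t ≡ χ 1` for a 2-element `t`. -/
theorem apply_sub_degree (hM : Cfsg.IsPModular 2 M) (χ : Cfsg.IrrCharacter G) {t : G} {a : ℕ}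
    (ht : orderOf t = 2 ^ a) : Cfsg.MemLocalIdeal M ((χ : G → ℂ) t - (χ : G → ℂ) 1) := by
  haveI := Fintype.ofFinite G
  have h := BlocksCore.char_mul_sub_memLocalIdeal hM χ (Commute.one_right t) ht
    (show ¬ 2 ∣ orderOf (1 : G) by simp)
  rwa [mul_one] at h

theorem sum_orth_one (hM : Cfsg.IsPModular 2 M) {t : G} {a : ℕ} (ht : orderOf t = 2 ^ a)
    (ht1 : t ≠ 1) :
    ∑ᶠ χ ∈ Cfsg.principalBlock M G, (χ : G → ℂ) 1 * conj ((χ : G → ℂ) t) = 0 :=
  orth_principal hM isPPart_one (isPPart_self ht) fun h => ht1 (isConj_one_right.mp h)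

/-- The sum of the non-principal degrees is odd. -/
theorem odd_degree_sum (hM : Cfsg.IsPModular 2 M) {t : G} (ht : orderOf t = 2) :
    Odd (∑ χ ∈ npr M G, Cfsg.charDegree (χ : G → ℂ)) := by
  classical
  haveI := Fintype.ofFinite G
  have := BlocksCore.isPrime hM
  have ht1 : t ≠ 1 := fun h => by simp [h] at ht
  have h0 := sum_orth_one hM (a := 1) (by simpa using ht) ht1
  rw [finsum_principal, oneIrr_apply, oneIrr_apply, map_one, mul_one] at h0
  have hsq : t ^ 2 = 1 := by rw [← ht, pow_orderOf_eq_one]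
  choose e he using fun χ : Cfsg.IrrCharacter G => BlocksCore.KleinBlock.exists_int_of_sq χ hsq
  have hpar : ∀ χ : Cfsg.IrrCharacter G, (2 : ℤ) ∣ e χ - (Cfsg.charDegree (χ : G → ℂ) : ℤ) := by
    intro χ
    have := apply_sub_degree hM χ (a := 1) (by simpa using ht)
    rw [he, BlocksCore.irr_one_eq] at this
    exact (BlocksCore.memLocalIdeal_intCast_iff hM _).mp (by push_cast; exact this)
  have h2 : (1 : ℤ) + ∑ χ ∈ npr M G, (Cfsg.charDegree (χ : G → ℂ) : ℤ) * e χ = 0 := by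
    have h3 : ((1 + ∑ χ ∈ npr M G, (Cfsg.charDegree (χ : G → ℂ) : ℤ) * e χ : ℤ) : ℂ) = 0 := by
      rw [← h0]
      push_cast
      refine congrArg ((1 : ℂ) + ·) (Finset.sum_congr rfl fun χ _ => ?_)
      rw [he, BlocksCore.irr_one_eq]
      simp
    exact_mod_cast h3
  have h4 : (2 : ℤ) ∣ ∑ χ ∈ npr M G, ((Cfsg.charDegree (χ : G → ℂ) : ℤ) * e χ -
      (Cfsg.charDegree (χ : G → ℂ) : ℤ)) := by
    refine Finset.dvd_sum fun χ _ => ?_
    set d := (Cfsg.charDegree (χ : G → ℂ) : ℤ)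
    have h5 : (2 : ℤ) ∣ d * (d - 1) := by
      rcases Int.even_or_odd d with hd | hd
      · exact (even_iff_two_dvd.mp hd).mul_right _
      · exact (even_iff_two_dvd.mp (hd.sub_odd odd_one)).mul_left _
    have : d * e χ - d = d * (e χ - d) + d * (d - 1) := by ring
    rw [this]
    exact dvd_add ((hpar χ).mul_left _) h5
  rw [Finset.sum_sub_distrib] at h4
  rw [← Int.odd_coe_nat, Nat.cast_sum, Int.odd_iff]
  omega

/-- The non-principal characters add up to something nonzero at 2-elements. -/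
theorem sum_conj_ne_zero (hM : Cfsg.IsPModular 2 M) {t : G} {a : ℕ} (ht : orderOf t = 2 ^ a)
    {t' : G} (ht' : orderOf t' = 2) : (∑ χ ∈ npr M G, conj ((χ : G → ℂ) t)) ≠ 0 := by
  haveI := Fintype.ofFinite G
  have := BlocksCore.isPrime hM
  intro h0
  have h1 : ∑ χ ∈ npr M G, (χ : G → ℂ) t = 0 := by
    have := congrArg conj h0
    simpa [map_sum] using this
  have h2 := BlocksCore.memLocalIdeal_sum (M := M) (s := npr M G)
    fun χ _ => apply_sub_degree hM χ ht
  rw [Finset.sum_sub_distrib, h1, zero_sub] at h2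
  have h3 := BlocksCore.memLocalIdeal_neg h2
  rw [neg_neg, Finset.sum_congr rfl fun χ _ => BlocksCore.irr_one_eq χ, ← Nat.cast_sum,
    BlocksCore.memLocalIdeal_natCast_iff hM] at h3
  exact Nat.not_even_iff_odd.mpr (odd_degree_sum hM ht') (even_iff_two_dvd.mpr h3)

/-- The shape of `g` when `χ 1 - χ g` is constant. -/
theorem shape (hM : Cfsg.IsPModular 2 M)
    (hfaith : ∀ g : G, (∀ χ ∈ Cfsg.principalBlock M G, (χ : G → ℂ) g = (χ : G → ℂ) 1) → g = 1)
    {t₀ : G} (ht₀ : orderOf t₀ = 2) {g : G} {k : ℂ} (hg : g ≠ 1) (hk : Const M g k)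
    (P : Sylow 2 G) :
    (∀ x ∈ (P : Subgroup G), x * x = 1) ∧
      (∀ s t : G, orderOf s = 2 → orderOf t = 2 → IsConj s t) ∧
      ∃ (z : G) (v : ↥(centralizer ({z} : Set G))), orderOf z = 2 ∧ ¬ 2 ∣ orderOf v ∧
        g = z * (v : G) ∧ ∃ n : ℕ, 0 < n ∧ k = n := by
  classical
  haveI := Fintype.ofFinite G
  have := BlocksCore.isPrime hM
  have hk0 : k ≠ 0 := by
    rintro rfl
    refine hg (hfaith g fun χ hχ => ?_)
    by_cases h1 : (χ : G → ℂ) = fun _ => 1
    · rw [h1]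
    · exact (sub_eq_zero.mp (hk χ hχ h1)).symm
  obtain ⟨z, v, hzv, hc, hzo, hv, -, -⟩ := BlocksCore.exists_isPPart (p := 2) Nat.prime_two g
  have hgz : Cfsg.IsPPart 2 g z := ⟨v, hzv, hc, hzo, hv⟩
  have hconj : ∀ t : G, (∃ a, orderOf t = 2 ^ a) → t ≠ 1 → IsConj z t := by
    rintro t ⟨a, ha⟩ ht1
    by_contra hne
    have h := weight_eq hk fun χ => conj ((χ : G → ℂ) t)
    rw [sum_orth_one hM ha ht1, orth_principal hM hgz (isPPart_self ha) hne, sub_zero] at h
    exact (mul_ne_zero hk0 (sum_conj_ne_zero hM ha ht₀)) h.symm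
  have hz2 : orderOf z = 2 := by
    obtain ⟨x, hx⟩ := isConj_iff.mp (hconj t₀ ⟨1, by simpa using ht₀⟩ fun h => by simp [h] at ht₀)
    rw [← ht₀, ← hx]
    exact (MulEquiv.orderOf_eq (MulAut.conj x) z).symm
  have hord : ∀ t : G, (∃ a, orderOf t = 2 ^ a) → t ≠ 1 → orderOf t = 2 := by
    intro t ht ht1
    obtain ⟨x, hx⟩ := isConj_iff.mp (hconj t ht ht1)
    rw [← hx, ← hz2]
    exact MulEquiv.orderOf_eq (MulAut.conj x) z
  refine ⟨fun x hx => ?_, fun s t hs ht => ?_, z,
    ⟨v, mem_centralizer_singleton_iff.mpr hc.symm.eq⟩, hz2, by rwa [Subgroup.orderOf_mk], hzv.symm,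
    ?_⟩
  · rw [← pow_two, ← orderOf_dvd_iff_pow_eq_one]
    by_cases h1 : x = 1
    · simp [h1]
    · obtain ⟨a, ha⟩ := IsPGroup.iff_orderOf.mp P.2 ⟨x, hx⟩
      rw [hord x ⟨a, by rwa [Subgroup.orderOf_mk] at ha⟩ h1]
  · have h1 : ∀ r : G, orderOf r = 2 → IsConj z r := fun r hr =>
      hconj r ⟨1, by simpa using hr⟩ fun h => by simp [h] at hr
    exact (h1 s hs).symm.trans (h1 t ht)
  · have hz1 : z ≠ 1 := fun h => by simp [h] at hz2
    have hT := odd_degree_sum (M := M) hM ht₀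
    set T := ∑ χ ∈ npr M G, Cfsg.charDegree (χ : G → ℂ) with hTdef
    have h := weight_eq hk fun χ => (χ : G → ℂ) 1
    have hsing : ∑ᶠ χ ∈ Cfsg.principalBlock M G, (χ : G → ℂ) g * (χ : G → ℂ) 1 = 0 := by
      rw [← orth_principal (M := M) hM hgz isPPart_one fun hh => hz1 (isConj_one_left.mp hh)]
      exact finsum_congr fun χ => finsum_congr fun _ => by
        rw [BlocksCore.irr_one_eq, map_natCast]
    rw [hsing, sub_zero, finsum_principal, oneIrr_apply, mul_one] at h
    have h' : ((1 + ∑ χ ∈ npr M G, Cfsg.charDegree (χ : G → ℂ) ^ 2 : ℕ) : ℂ) = k * (T : ℂ) := by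
      rw [hTdef]
      push_cast
      simp only [pow_two, ← BlocksCore.irr_one_eq]
      exact h
    obtain ⟨χ, hχ⟩ : (npr M G).Nonempty := by
      by_contra h0
      rw [Finset.not_nonempty_iff_eq_empty] at h0
      rw [hTdef, h0, Finset.sum_empty] at hT
      exact Nat.not_odd_zero hT
    have hT0 : 0 < T := hT.pos
    have hint : IsIntegral ℤ k := by
      rw [← hk χ (mem_npr.mp hχ).1 (mem_npr.mp hχ).2]
      exact (BlocksCore.isIntegral_irr _ _).sub (BlocksCore.isIntegral_irr _ _)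
    set N := 1 + ∑ χ ∈ npr M G, Cfsg.charDegree (χ : G → ℂ) ^ 2
    have hq : k = algebraMap ℚ ℂ ((N : ℚ) / T) := by
      rw [eq_ratCast, Rat.cast_div, Rat.cast_natCast, Rat.cast_natCast,
        eq_div_iff (by exact_mod_cast hT0.ne')]
      exact h'.symm
    rw [hq, isIntegral_algebraMap_iff (algebraMap ℚ ℂ).injective,
      IsIntegrallyClosed.isIntegral_iff] at hint
    obtain ⟨y, hy⟩ := hint
    rw [eq_intCast] at hy
    have hy0 : 0 < y := by
      have : (0 : ℚ) < y := by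
        rw [hy]
        exact div_pos (by simp [N]; positivity) (by exact_mod_cast hT0)
      exact_mod_cast this
    refine ⟨y.toNat, by omega, ?_⟩
    rw [hq, ← hy, eq_ratCast, Rat.cast_intCast]
    exact_mod_cast (Int.toNat_of_nonneg hy0.le).symm

end Cfsg.Agent.CD88
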