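import Cfsg.Prelude.Def_Local
import Cfsg.Prelude.Def_Blocks
import Mathlib.LinearAlgebra.Matrix.ProjectiveSpecialLinearGroup
import Mathlib.FieldTheory.Finite.Basic

/-!
# Constant degree minus value on the principal 2-block (S4514): interfaces

`Char.lean`: the character half.  `Structure.lean`: `SolvCentStmt`.  `Finish.lean`: `FinishStmt`.
`Reverse.lean`: `ReverseStmt`.
-/

set_option autoImplicit false

namespace Cfsg.Agent.CD88

open Subgroup

universe u

/-- One class of involutions and an elementary abelian Sylow 2-subgroup of order `≠ 8`: the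
centralisers of the involutions are solvable. -/
def SolvCentStmt : Prop :=
  ∀ (G : Type u) [Group G] [Finite G] (P : Sylow 2 G),
    (∀ x ∈ (P : Subgroup G), x * x = 1) →
    (∀ s t : G, orderOf s = 2 → orderOf t = 2 → IsConj s t) →
    Nat.card (P : Subgroup G) ≠ 8 →
    ∀ z : G, orderOf z = 2 → Group.IsSolvable ↥(centralizer ({z} : Set G))

/-- Recognition of `PSL(2, 2ⁿ)`. -/
def FinishStmt : Prop :=
  ∀ (G : Type u) [Group G] [Finite G] (P : Sylow 2 G),
    (∀ x ∈ (P : Subgroup G), x * x = 1) →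
    (∀ s t : G, orderOf s = 2 → orderOf t = 2 → IsConj s t) →
    4 ≤ Nat.card (P : Subgroup G) →
    Cfsg.oddCore G = ⊥ →
    (∀ t : G, orderOf t = 2 → ∃ K : Subgroup ↥(centralizer ({t} : Set G)),
      K.Normal ∧ Odd (Nat.card K) ∧ K.index = Nat.card (P : Subgroup G)) →
    (∀ N : Subgroup G, N.Normal → Odd N.index →
      N ⊔ centralizer ((P : Subgroup G) : Set G) = ⊤) →
    (Nat.card (P : Subgroup G) = 4 → ∃ χ : Cfsg.IrrCharacter G,
      (χ : G → ℂ) 1 = 3 ∧ ∀ t : G, orderOf t = 2 → (χ : G → ℂ) t = -1) →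
    ∃ (F : Type) (_ : Field F) (_ : Fintype F) (n : ℕ), 2 ≤ n ∧ Fintype.card F = 2 ^ n ∧
      Nonempty (G ≃* Matrix.ProjectiveSpecialLinearGroup (Fin 2) F)

/-- The values of the principal block of `PSL(2, 2ⁿ)` at an involution. -/
def ReverseStmt : Prop :=
  ∀ (G : Type u) [Group G] [Finite G] (M : Ideal Cfsg.AlgInt), Cfsg.IsPModular 2 M →
    ∀ (F : Type) [Field F] [Fintype F] (n : ℕ), 2 ≤ n → Fintype.card F = 2 ^ n →
      Nonempty (G ≃* Matrix.ProjectiveSpecialLinearGroup (Fin 2) F) →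
      ∀ u : G, u ≠ 1 → u ^ 2 = 1 → ∀ χ : Cfsg.IrrCharacter G, χ ∈ Cfsg.principalBlock M G →
        (χ : G → ℂ) ≠ (fun _ => 1) → (χ : G → ℂ) 1 - (χ : G → ℂ) u = (2 ^ n : ℂ)

end Cfsg.Agent.CD88
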