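import Cfsg.Agent.CD88.Basics
import Cfsg.Agent.CharDeep.FSys.Main
import Cfsg.Agent.Lib.BlocksCore.DefectZero
import Cfsg.Agent.Lib.BlocksDefect.Kernel
import Cfsg.Agent.Lib.CharCore.Linear

/-!
# S4514: no member of the block is trivial on `P`
-/

set_option autoImplicit false
set_option maxHeartbeats 400000

namespace Cfsg.Agent.CD88.Deg

open Subgroup Finset
open scoped ComplexConjugate

universe u

variable {G : Type u} [Group G] [Finite G] {M : Ideal Cfsg.AlgInt}

theorem index_odd (P : Sylow 2 G) {x : G} (h : (P : Subgroup G) ≤ centralizer ({x} : Set G)) :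
    ¬ 2 ∣ (centralizer ({x} : Set G)).index :=
  fun h2 => P.not_dvd_index (h2.trans (Subgroup.index_dvd_of_le h))

theorem conj_mem_of_odd (P : Sylow 2 G) {x : G} (h : ¬ 2 ∣ (centralizer ({x} : Set G)).index) :
    ∃ c : G, c * x * c⁻¹ ∈ centralizer ((P : Subgroup G) : Set G) := by
  obtain ⟨R⟩ : Nonempty (Sylow 2 ↥(centralizer ({x} : Set G))) := inferInstance
  have hp := R.2.map (centralizer ({x} : Set G)).subtype
  obtain ⟨Q, hQ⟩ := IsPGroup.exists_le_sylow hp
  set m := Nat.card (R : Subgroup ↥(centralizer ({x} : Set G)))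
  have hm : Nat.card ((R : Subgroup ↥(centralizer ({x} : Set G))).map
      (centralizer ({x} : Set G)).subtype) = m :=
    Subgroup.card_map_of_injective (centralizer ({x} : Set G)).subtype_injective
  have hidx : ¬ 2 ∣ ((R : Subgroup ↥(centralizer ({x} : Set G))).map
      (centralizer ({x} : Set G)).subtype).index := by
    rw [Subgroup.index_map_subtype, Nat.prime_two.dvd_mul]
    exact not_or.mpr ⟨R.not_dvd_index, h⟩
  have hle : Q.toSubgroup ≤ centralizer ({x} : Set G) := by
    refine le_trans (le_of_eq ?_) (map_subtype_le (R : Subgroup ↥(centralizer ({x} : Set G))))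
    exact (hp.toSylow hidx).is_maximal' Q.2 hQ
  obtain ⟨c, rfl⟩ := MulAction.exists_smul_eq G P Q
  refine ⟨c⁻¹, mem_centralizer_iff.mpr fun a ha => ?_⟩
  have h1 : c * a * c⁻¹ ∈ centralizer ({x} : Set G) := hle ⟨a, ha, rfl⟩
  rw [mem_centralizer_singleton_iff] at h1
  calc a * (c⁻¹ * x * c⁻¹⁻¹) = c⁻¹ * ((c * a * c⁻¹) * x) * c := by group
    _ = c⁻¹ * (x * (c * a * c⁻¹)) * c := by rw [h1]
    _ = _ := by group

/-- Normal subgroups of odd index cover the group with `C(P)`. -/
theorem sup_eq_top (hM : Cfsg.IsPModular 2 M) (P : Sylow 2 G) {g : G} {k : ℕ} (hk3 : 3 ≤ k)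
    (hk : Const M g k) (N : Subgroup G) (hN : N.Normal) (hodd : Odd N.index) :
    N ⊔ centralizer ((P : Subgroup G) : Set G) = ⊤ := by
  classical
  haveI := Fintype.ofFinite G
  have := BlocksCore.isPrime hM
  set J := N ⊔ centralizer ((P : Subgroup G) : Set G) with hJ
  have hQodd : Odd (Nat.card (G ⧸ N)) := hodd
  have hPN : (P : Subgroup G) ≤ N := by
    intro a ha
    rw [← QuotientGroup.eq_one_iff, ← orderOf_eq_one_iff]
    obtain ⟨e, he⟩ := IsPGroup.iff_orderOf.mp P.2 ⟨a, ha⟩
    rw [Subgroup.orderOf_mk] at he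
    exact Nat.eq_one_of_dvd_coprimes
      (Nat.Coprime.pow_left e (Nat.coprime_two_left.mpr hQodd))
      (he ▸ orderOf_map_dvd (QuotientGroup.mk' N) a) (orderOf_dvd_natCard _)
  haveI hJn : J.Normal := by
    rw [← Subgroup.normalizer_eq_top_iff, ← top_le_iff,
      ← Sylow.normalizer_sup_eq_top (P.subtype hPN)]
    refine sup_le (fun n hn => ?_) (le_trans le_sup_left Subgroup.le_normalizer)
    rw [Sylow.coe_subtype, Subgroup.map_subgroupOf_eq_of_le hPN] at hn
    have hc : ∀ n ∈ normalizer ((P : Subgroup G) : Set G),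
        ∀ c ∈ centralizer ((P : Subgroup G) : Set G),
          n * c * n⁻¹ ∈ centralizer ((P : Subgroup G) : Set G) := by
      intro n hn c hc
      rw [mem_centralizer_iff] at hc ⊢
      intro a ha
      have h' := hc _ ((mem_normalizer_iff.mp (inv_mem hn) a).mp ha)
      rw [inv_inv] at h'
      calc a * (n * c * n⁻¹) = n * ((n⁻¹ * a * n) * c) * n⁻¹ := by group
        _ = n * (c * (n⁻¹ * a * n)) * n⁻¹ := by rw [h']
        _ = _ := by group
    have hsub : ∀ n ∈ normalizer ((P : Subgroup G) : Set G), ∀ j ∈ J, n * j * n⁻¹ ∈ J := by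
      intro n hn j hj
      have : J ≤ J.comap (MulAut.conj n).toMonoidHom := sup_le
        (fun a ha => le_sup_left (a := N) (b := centralizer ((P : Subgroup G) : Set G))
          (hN.conj_mem a ha n))
        (fun a ha => le_sup_right (a := N) (b := centralizer ((P : Subgroup G) : Set G))
          (hc n hn a ha))
      exact this hj
    rw [mem_normalizer_iff]
    refine fun j => ⟨hsub n hn j, fun hj => ?_⟩
    have h' := hsub n⁻¹ (inv_mem hn) _ hj
    simpa [mul_assoc] using h'
  by_contra hne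
  have hJodd : Odd (Nat.card (G ⧸ J)) :=
    hodd.of_dvd_nat (Subgroup.index_dvd_of_le le_sup_left)
  haveI : Group.IsSolvable (G ⧸ J) := CharDeep.FSys.solvable_of_odd hJodd
  haveI : Nontrivial (G ⧸ J) := by
    rw [← Finite.one_lt_card_iff_nontrivial]
    exact Subgroup.one_lt_index_of_ne_top hne
  have hcomm : commutator (G ⧸ J) < ⊤ := Group.IsSolvable.commutator_lt_top_of_nontrivial _
  obtain ⟨y, -, hy⟩ := SetLike.exists_of_lt hcomm
  obtain ⟨φ, hφ⟩ := CommGroup.exists_apply_ne_one_of_hasEnoughRootsOfUnity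
    (Abelianization (G ⧸ J)) ℂ (a := Abelianization.of y) fun h =>
      hy ((QuotientGroup.eq_one_iff y).mp h)
  set f : G →* ℂˣ := φ.comp (Abelianization.of.comp (QuotientGroup.mk' J)) with hf
  set χ : Cfsg.IrrCharacter G := ⟨fun x => (f x : ℂ), CharCore.isIrrCharacter_hom f⟩
  have hne1 : (χ : G → ℂ) ≠ fun _ => 1 := by
    obtain ⟨x, rfl⟩ := QuotientGroup.mk_surjective y
    exact fun h => hφ (Units.ext (congrFun h x))
  have hmem : χ ∈ Cfsg.principalBlock M G := by
    refine BlocksCore.sameBlock_symm fun x => ?_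
    show Cfsg.MemLocalIdeal M (((centralizer ({x} : Set G)).index : ℂ) * (f x : ℂ) / (f 1 : ℂ) -
      ((centralizer ({x} : Set G)).index : ℂ) * 1 / 1)
    rw [map_one, Units.val_one, div_one, div_one, ← mul_sub]
    by_cases h2 : 2 ∣ (centralizer ({x} : Set G)).index
    · exact BlocksCore.memLocalIdeal_mul_right
        ((BlocksCore.memLocalIdeal_natCast_iff hM _).mpr h2)
        ((BlocksCore.localRing M).sub_mem (BlocksCore.memLocalRing_of_isIntegral
          (BlocksCore.isIntegral_irr χ x)) (one_mem _))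
    · obtain ⟨c, hc⟩ := conj_mem_of_odd P h2
      have h1 : f (c * x * c⁻¹) = 1 := by
        rw [hf, MonoidHom.comp_apply, MonoidHom.comp_apply, QuotientGroup.mk'_apply,
          (QuotientGroup.eq_one_iff _).mpr (le_sup_right
            (a := N) (b := centralizer ((P : Subgroup G) : Set G)) hc), map_one, map_one]
      rw [map_mul, map_mul, map_inv, mul_right_comm, mul_inv_cancel, one_mul] at h1
      rw [h1, Units.val_one, sub_self, mul_zero]
      exact BlocksCore.memLocalIdeal_zero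
  have h := hk χ hmem hne1
  have hn : ‖((χ : G → ℂ) g)‖ ≤ 1 := by
    refine (CharCore.IsCharacter.norm_apply_le (CharCore.irr_isCharacter χ) g).trans_eq ?_
    show ‖((f 1 : ℂˣ) : ℂ)‖ = 1
    simp
  have h1 : ‖((χ : G → ℂ) 1) - (χ : G → ℂ) g‖ ≤ 2 := by
    refine (norm_sub_le _ _).trans ?_
    have : ‖((χ : G → ℂ) 1)‖ = 1 := by
      show ‖((f 1 : ℂˣ) : ℂ)‖ = 1
      simp
    linarith
  rw [h, Complex.norm_natCast] at h1
  have : (3 : ℝ) ≤ k := by exact_mod_cast hk3
  linarith

/-- The degrees are at least `|P| - 1`. -/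
theorem degree_ge (hM : Cfsg.IsPModular 2 M) (P : Sylow 2 G)
    (hexp : ∀ x ∈ (P : Subgroup G), x * x = 1)
    (hone : ∀ s t : G, orderOf s = 2 → orderOf t = 2 → IsConj s t)
    (hP2 : 2 ≤ Nat.card (P : Subgroup G)) {g : G} {k : ℕ} (hk3 : 3 ≤ k) (hk : Const M g k)
    (χ : Cfsg.IrrCharacter G) (hχ : χ ∈ Cfsg.principalBlock M G)
    (hχ1 : (χ : G → ℂ) ≠ fun _ => 1) :
    (Nat.card (P : Subgroup G) : ℝ) - 1 ≤ ((χ : G → ℂ) 1).re := by
  classical
  haveI := Fintype.ofFinite G
  have := BlocksCore.isPrime hM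
  haveI : Nontrivial (P : Subgroup G) := by
    rw [← Finite.one_lt_card_iff_nontrivial]; omega
  obtain ⟨⟨z, hzP⟩, hz1⟩ := exists_ne (1 : (P : Subgroup G))
  have hz1' : z ≠ 1 := fun h => hz1 (Subtype.ext h)
  have hord : ∀ a ∈ (P : Subgroup G), a ≠ 1 → orderOf a = 2 := fun a ha ha1 =>
    orderOf_eq_prime (by rw [pow_two, hexp a ha]) ha1
  have hPconst : ∀ a ∈ (P : Subgroup G), a ≠ 1 → (χ : G → ℂ) a = (χ : G → ℂ) z := by
    intro a ha ha1
    obtain ⟨c, rfl⟩ := isConj_iff.mp (hone z a (hord z hzP hz1') (hord a ha ha1))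
    exact BlocksCore.irr_class χ z c
  set d := Cfsg.charDegree (χ : G → ℂ) with hd
  obtain ⟨e, he⟩ := BlocksCore.KleinBlock.exists_int_of_sq χ
    (show z ^ 2 = 1 by rw [pow_two, hexp z hzP])
  have hne : (χ : G → ℂ) z ≠ (χ : G → ℂ) 1 := by
    intro hz
    set N := CharCore.charKernel (CharCore.irr_isCharacter χ) with hN
    have hPN : (P : Subgroup G) ≤ N := fun a ha => by
      rw [hN, CharCore.mem_charKernel]
      by_cases ha1 : a = 1
      · rw [ha1]
      · rw [hPconst a ha ha1, hz]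
    have hNodd : Odd N.index := by
      rw [← Nat.not_even_iff_odd, even_iff_two_dvd]
      exact fun h2 => P.not_dvd_index (h2.trans (Subgroup.index_dvd_of_le hPN))
    have htop := sup_eq_top hM P hk3 hk N inferInstance hNodd
    have hall : ∀ x : G, Cfsg.MemLocalIdeal M ((χ : G → ℂ) x - (χ : G → ℂ) 1) := by
      intro x
      have hx : x ∈ ((N ⊔ centralizer ((P : Subgroup G) : Set G) : Subgroup G) : Set G) := by
        rw [htop]; trivial
      rw [Subgroup.normal_mul] at hx
      obtain ⟨n, hn, c, hc, rfl⟩ := hx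
      beta_reduce
      rw [show n * c = c * (c⁻¹ * n * c) by group, CharCore.IsCharacter.apply_mul_of_mem_kernel
        (CharCore.irr_isCharacter χ) (by
          have h := (inferInstance : N.Normal).conj_mem n hn c⁻¹
          rw [inv_inv] at h
          exact h) c]
      have hidx := index_odd P (x := c) fun a ha =>
        mem_centralizer_singleton_iff.mpr (mem_centralizer_iff.mp hc a ha)
      have h1 : Cfsg.MemLocalIdeal M (((centralizer ({c} : Set G)).index : ℂ) *
          (χ : G → ℂ) c / (χ : G → ℂ) 1 - ((centralizer ({c} : Set G)).index : ℂ) * 1 / 1) :=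
        (BlocksCore.sameBlock_symm hχ) c
      set i : ℂ := ((centralizer ({c} : Set G)).index : ℂ) with hi
      have h3 := BlocksCore.memLocalIdeal_mul_left (M := M) (x := i⁻¹ * (χ : G → ℂ) 1)
        ((BlocksCore.localRing M).mul_mem (BlocksCore.memLocalRing_natCast_inv hM hidx)
          (BlocksCore.memLocalRing_of_isIntegral (BlocksCore.isIntegral_irr χ 1))) h1
      convert h3 using 1
      have hi0 : i ≠ 0 := by
        rw [hi]; exact_mod_cast Subgroup.index_ne_zero_of_finite
      have := BlocksCore.irr_one_ne_zero χ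
      field_simp
    haveI := Fintype.ofFinite (G ⧸ N)
    obtain ⟨θ, hθ⟩ := BlocksDefect.exists_inflate_eq (N := N) χ fun n hn => hn
    have hθv : ∀ x : G, (θ : G ⧸ N → ℂ) (x : G ⧸ N) = (χ : G → ℂ) x := fun x =>
      congrFun (congrArg Subtype.val hθ) x
    have hθ1 : θ ≠ BlocksDefect.oneIrr (G ⧸ N) := fun h => hχ1 (funext fun x => by
      rw [← hθv x, h]; rfl)
    have hsum : ∑ y : G ⧸ N, (θ : G ⧸ N → ℂ) y = 0 := by
      have h0 := CharCore.classInner_irr_of_ne hθ1
      rw [Cfsg.classInner, mul_eq_zero] at h0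
      have h1 := h0.resolve_left (by simp)
      simpa [BlocksDefect.coe_oneIrr] using h1
    have hθd : Cfsg.charDegree (θ : G ⧸ N → ℂ) = d := by
      have := hθv 1
      rw [BlocksCore.irr_one_eq, QuotientGroup.mk_one, BlocksCore.irr_one_eq] at this
      exact_mod_cast this
    have hdodd : Odd d := (show Odd (Nat.card (G ⧸ N)) from hNodd).of_dvd_nat
      (hθd ▸ BlocksCore.charDegree_dvd_card θ)
    have hmem := BlocksCore.memLocalIdeal_sum (M := M) (s := (Finset.univ : Finset (G ⧸ N)))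
      (f := fun y => (θ : G ⧸ N → ℂ) y - (θ : G ⧸ N → ℂ) 1) fun y _ => by
      obtain ⟨x, rfl⟩ := QuotientGroup.mk_surjective y
      rw [hθv x, ← QuotientGroup.mk_one, hθv 1]
      exact hall x
    rw [Finset.sum_sub_distrib, hsum, zero_sub, Finset.sum_const, Finset.card_univ,
      nsmul_eq_mul, BlocksCore.irr_one_eq, hθd, ← Nat.cast_mul] at hmem
    have h2 := BlocksCore.memLocalIdeal_neg hmem
    rw [neg_neg, BlocksCore.memLocalIdeal_natCast_iff hM, ← Nat.card_eq_fintype_card] at h2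
    exact Nat.not_even_iff_odd.mpr ((show Odd (Nat.card (G ⧸ N)) from hNodd).mul hdodd)
      (even_iff_two_dvd.mpr h2)
  haveI := Fintype.ofFinite (P : Subgroup G)
  obtain ⟨m, hm⟩ := CharCore.IsCharacter.exists_classInner_irr_eq_natCast
    (CharCore.isCharacter_comp (CharCore.irr_isCharacter χ) (P : Subgroup G).subtype)
    (BlocksDefect.oneIrr (P : Subgroup G))
  have hsum : ∑ a : (P : Subgroup G), (χ : G → ℂ) (a : G) =
      (d : ℂ) + ((Nat.card (P : Subgroup G) : ℂ) - 1) * (e : ℂ) := by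
    rw [← Finset.add_sum_erase _ _ (Finset.mem_univ (1 : (P : Subgroup G))),
      OneMemClass.coe_one, BlocksCore.irr_one_eq, Finset.sum_congr rfl fun a ha => by
        rw [hPconst a a.2 fun h => (Finset.ne_of_mem_erase ha) (Subtype.ext h), he],
      Finset.sum_const, nsmul_eq_mul, Finset.card_erase_of_mem (Finset.mem_univ _),
      Finset.card_univ, ← Nat.card_eq_fintype_card, Nat.cast_sub (by omega), Nat.cast_one]
  rw [Cfsg.classInner] at hm
  simp only [BlocksDefect.coe_oneIrr, map_one, mul_one, Subgroup.coe_subtype] at hm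
  set q := Nat.card (P : Subgroup G) with hq
  have hq0 : (q : ℂ) ≠ 0 := by exact_mod_cast (show q ≠ 0 by omega)
  rw [hsum, inv_mul_eq_iff_eq_mul₀ hq0] at hm
  have hZ : (d : ℤ) + ((q : ℤ) - 1) * e = (q : ℤ) * m := by exact_mod_cast hm
  have hle : e ≤ d := by
    have h1 := CharCore.IsCharacter.norm_apply_le (CharCore.irr_isCharacter χ) z
    rw [he, BlocksCore.irr_one_eq, Complex.norm_intCast, Complex.norm_natCast] at h1
    exact_mod_cast (le_abs_self (e : ℝ)).trans h1
  have hlt : e < d := lt_of_le_of_ne hle fun h => hne (by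
    rw [he, h, BlocksCore.irr_one_eq]; norm_num [hd])
  have hdvd : (q : ℤ) ∣ (d : ℤ) - e := ⟨m - e, by linarith⟩
  have hge : (q : ℤ) ≤ (d : ℤ) - e := Int.le_of_dvd (by omega) hdvd
  have hres : (q : ℤ) - 1 ≤ (d : ℤ) := by
    have h1 : ((q : ℤ) - 1) * q ≤ ((q : ℤ) - 1) * ((d : ℤ) - e) :=
      mul_le_mul_of_nonneg_left hge (by omega)
    have h2 : ((q : ℤ) - 1) * ((d : ℤ) - e) = q * ((d : ℤ) - m) := by linarith
    have h3 : (0 : ℤ) ≤ (q : ℤ) * m := by positivity
    have h4 : (q : ℤ) * ((q : ℤ) - 1) ≤ (q : ℤ) * d := by linarith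
    exact le_of_mul_le_mul_left h4 (by omega)
  rw [BlocksCore.irr_one_eq, Complex.natCast_re]
  exact_mod_cast hres

theorem degreeOwn : DegreeStmt.{u} := fun _ _ _ _ hM P hexp hone h2 _ _ hk3 hk =>
  ⟨degree_ge hM P hexp hone h2 hk3 hk, sup_eq_top hM P hk3 hk⟩

end Cfsg.Agent.CD88.Deg
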