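import Cfsg.Agent.CD88.Defs
import Cfsg.Agent.H40.AbSolv.Main
import Cfsg.Agent.Bender27.Main
import Cfsg.Agent.Char2x2.SLOddTable
import Cfsg.Agent.Lib.LinearGroup.SylowChar
import Cfsg.Agent.Lib.LinearGroup.SmallPSL

/-!
# Recognition of `PSL(2, 2ⁿ)` (S4514): `FinishStmt` from the four-group theorem
-/

set_option autoImplicit false
set_option linter.style.haveILetI false

namespace Cfsg.Agent.CD88

open Subgroup

universe u v

/-- The Sylow `2`-subgroups of a group isomorphic to `SL(2, 2ⁿ)`. -/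
theorem sylow_facts {M : Type u} [Group M] [Finite M] {F : Type v} [Field F] [Finite F] [CharP F 2]
    (e : Matrix.SpecialLinearGroup (Fin 2) F ≃* M) :
    Nat.card (Sylow 2 M) = Nat.card F + 1 ∧
      (∀ R : Sylow 2 M, Nat.card R = Nat.card F) ∧
      ∀ R S : Sylow 2 M, R ≠ S → (R : Subgroup M) ⊓ S = ⊥ := by
  haveI : Fact (Nat.Prime 2) := ⟨Nat.prime_two⟩
  let σ : Sylow 2 (Matrix.SpecialLinearGroup (Fin 2) F) → Sylow 2 M :=
    fun R => R.mapSurjective (f := e.toMonoidHom) e.surjective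
  have hsurj : Function.Surjective σ := Sylow.mapSurjective_surjective e.surjective 2
  have hinj : Function.Injective σ := fun R S h =>
    Sylow.ext (Subgroup.map_injective (f := e.toMonoidHom) e.injective
      (congrArg Sylow.toSubgroup h))
  refine ⟨?_, fun R => ?_, fun R S hne => ?_⟩
  · rw [← Nat.card_eq_of_bijective σ ⟨hinj, hsurj⟩, LinearGroup.card_sylow_SL_two_count]
  · obtain ⟨R, rfl⟩ := hsurj R
    exact (Subgroup.card_map_of_injective e.injective).trans (LinearGroup.card_sylow_SL_two 2 R)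
  · obtain ⟨R, rfl⟩ := hsurj R
    obtain ⟨S, rfl⟩ := hsurj S
    have h := LinearGroup.sylow_inf_eq_bot_SL_two 2 R S (fun h => hne (congrArg σ h))
    show (R : Subgroup _).map e.toMonoidHom ⊓ (S : Subgroup _).map e.toMonoidHom = ⊥
    rw [← Subgroup.map_inf _ _ _ e.injective, h, Subgroup.map_bot]

section even

variable {G : Type u} [Group G] [Finite G]

/-- An element of odd order centralising a Sylow `2`-subgroup of a normal `PSL(2, 2ⁿ)`
centralises all of it. -/
theorem mem_centralizer_normal (P : Sylow 2 G) (hel : ∀ x ∈ (P : Subgroup G), x * x = 1)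
    (N : Subgroup G) [N.Normal] (hPN : (P : Subgroup G) ≤ N) {F : Type} [Field F] [Fintype F]
    {n : ℕ} (hn : 2 ≤ n) (hF : Fintype.card F = 2 ^ n)
    (e : ↥N ≃* Matrix.ProjectiveSpecialLinearGroup (Fin 2) F) {x : G}
    (hx : x ∈ centralizer ((P : Subgroup G) : Set G)) (hodd : Odd (orderOf x)) :
    x ∈ centralizer (N : Set G) := by
  classical
  haveI : Fact (Nat.Prime 2) := ⟨Nat.prime_two⟩
  haveI : CharP F 2 := by
    obtain ⟨p, hp⟩ := CharP.exists F
    obtain ⟨k, hk, hk'⟩ := FiniteField.card F p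
    have : p = 2 := (Nat.prime_dvd_prime_iff_eq hk Nat.prime_two).1 (hk.dvd_of_dvd_pow
      (hF ▸ hk' ▸ dvd_pow_self p k.ne_zero : p ∣ 2 ^ n))
    exact this ▸ hp
  have h4 : 4 ≤ Nat.card F := by
    rw [Nat.card_eq_fintype_card, hF]
    exact le_trans (by norm_num) (Nat.pow_le_pow_right two_pos hn)
  have hgcd : Nat.gcd (Fintype.card (Fin 2)) (Nat.card F - 1) = 1 := by
    rw [Fintype.card_fin, Nat.card_eq_fintype_card, hF]
    refine (Nat.Prime.coprime_iff_not_dvd Nat.prime_two).2 ?_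
    intro h
    have h2 : 2 ∣ 2 ^ n := dvd_pow_self 2 (by omega)
    have h1 : 1 ≤ 2 ^ n := Nat.one_le_two_pow
    generalize 2 ^ n = c at h h1 h2
    omega
  obtain ⟨hcount, hcard, hti⟩ := sylow_facts ((LinearGroup.slEquivPSL hgcd).trans e.symm)
  haveI : IsSimpleGroup (Matrix.ProjectiveSpecialLinearGroup (Fin 2) F) :=
    Matrix.ProjectiveSpecialLinearGroup.rank_two_simple (by omega)
  haveI : Nontrivial ↥N := e.toEquiv.nontrivial
  haveI : IsSimpleGroup ↥N :=
    IsSimpleGroup.isSimpleGroup_of_surjective e.symm.toMonoidHom e.symm.surjective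
  let PN : Sylow 2 ↥N := P.subtype hPN
  have hPN2 : ∀ u ∈ (PN : Subgroup ↥N), u * u = 1 := fun u hu =>
    Subtype.ext (hel _ (Subgroup.mem_subgroupOf.1 hu))
  let σ : G → Sylow 2 ↥N → Sylow 2 ↥N := fun g R =>
    R.mapSurjective (f := (MulAut.conjNormal g : MulAut ↥N).toMonoidHom)
      (MulAut.conjNormal g : MulAut ↥N).surjective
  have hσmul : ∀ a b R, σ (a * b) R = σ a (σ b R) := fun a b R => Sylow.ext (by
    show (R : Subgroup ↥N).map _ = ((R : Subgroup ↥N).map _).map _
    rw [Subgroup.map_map, map_mul]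
    rfl)
  have hσone : ∀ R, σ 1 R = R := fun R => Sylow.ext (by
    show (R : Subgroup ↥N).map _ = _
    rw [map_one]
    exact Subgroup.map_id _)
  have hσsmul : ∀ (g : G) (w : ↥N) (R : Sylow 2 ↥N),
      σ g (w • R) = (MulAut.conjNormal g w : ↥N) • σ g R := fun g w R => Sylow.ext (by
    show ((R : Subgroup ↥N).map (MulAut.conj w).toMonoidHom).map
        (MulAut.conjNormal g : MulAut ↥N).toMonoidHom =
      ((R : Subgroup ↥N).map (MulAut.conjNormal g : MulAut ↥N).toMonoidHom).map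
        (MulAut.conj (MulAut.conjNormal g w : ↥N)).toMonoidHom
    rw [Subgroup.map_map, Subgroup.map_map]
    congr 1
    ext y
    simp [mul_assoc])
  have hfix : ∀ u ∈ (PN : Subgroup ↥N), (MulAut.conjNormal x : MulAut ↥N) u = u := fun u hu =>
    Subtype.ext (by
      rw [MulAut.conjNormal_apply, ← mem_centralizer_iff.1 hx _ (Subgroup.mem_subgroupOf.1 hu),
        mul_inv_cancel_right])
  have hσP : σ x PN = PN := Sylow.ext (by
    show (PN : Subgroup ↥N).map _ = _
    ext w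
    constructor
    · rintro ⟨u, hu, rfl⟩
      exact (hfix u hu).symm ▸ hu
    · exact fun hw => ⟨w, hw, hfix w hw⟩)
  -- `x` fixes every Sylow `2`-subgroup
  have key : ∀ Q : Sylow 2 ↥N, σ x Q = Q := by
    intro Q
    by_cases hQ : Q = PN
    · rw [hQ, hσP]
    have hne : ∀ u : ↥(PN : Subgroup ↥N), (u : ↥N) • Q ≠ PN := fun u h => hQ (by
      rw [← inv_smul_smul (u : ↥N) Q, h]
      exact Sylow.smul_eq_iff_mem_normalizer.2
        (Subgroup.le_normalizer ((PN : Subgroup ↥N).inv_mem u.2)))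
    let θ : ↥(PN : Subgroup ↥N) → {R : Sylow 2 ↥N // R ≠ PN} :=
      fun u => ⟨(u : ↥N) • Q, hne u⟩
    have hθ : Function.Injective θ := by
      intro u w h
      have h' : ((w : ↥N)⁻¹ * u) • Q = Q := by
        rw [mul_smul, show (u : ↥N) • Q = (w : ↥N) • Q from congrArg Subtype.val h, inv_smul_smul]
      have hmem : (w : ↥N)⁻¹ * u ∈ (PN : Subgroup ↥N) :=
        (PN : Subgroup ↥N).mul_mem ((PN : Subgroup ↥N).inv_mem w.2) u.2
      obtain ⟨k, hk⟩ := IsPGroup.iff_orderOf.1 PN.isPGroup' ⟨_, hmem⟩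
      rw [Subgroup.orderOf_mk] at hk
      have := U3Sylow80.mem_sylow_of_normalizes Q (Sylow.smul_eq_iff_mem_normalizer.1 h') hk
      have h1 := (hti PN Q (Ne.symm hQ)).le ⟨hmem, this⟩
      rw [Subgroup.mem_bot, inv_mul_eq_one] at h1
      exact Subtype.ext h1.symm
    have hθb : Function.Bijective θ := by
      refine (Nat.bijective_iff_injective_and_card θ).2 ⟨hθ, ?_⟩
      rw [hcard PN]
      haveI := Fintype.ofFinite (Sylow 2 ↥N)
      rw [Nat.card_eq_fintype_card (α := {R : Sylow 2 ↥N // R ≠ PN}),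
        Fintype.card_subtype_compl, Fintype.card_subtype_eq,
        ← Nat.card_eq_fintype_card, hcount]
      omega
    have hσQ : σ x Q ≠ PN := fun h => hQ (by
      have h1 : σ x⁻¹ (σ x Q) = σ x⁻¹ (σ x PN) := by rw [h, hσP]
      rwa [← hσmul, ← hσmul, inv_mul_cancel, hσone, hσone] at h1)
    obtain ⟨u, hu⟩ := hθb.2 ⟨_, hσQ⟩
    have hu' : σ x Q = (u : ↥N) • Q := (congrArg Subtype.val hu).symm
    have hpow : ∀ k : ℕ, σ (x ^ k) Q = ((u : ↥N) ^ k) • Q := by
      intro k
      induction k with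
      | zero => rw [pow_zero, pow_zero, hσone, one_smul]
      | succ k ih =>
        rw [pow_succ', hσmul, ih, hσsmul, hfix _ ((PN : Subgroup ↥N).pow_mem u.2 k), hu',
          ← mul_smul, ← pow_succ]
    have hm := hpow (orderOf x)
    rw [pow_orderOf_eq_one, hσone] at hm
    obtain ⟨j, hj⟩ := hodd
    rw [hj, pow_succ, pow_mul, pow_two, hPN2 _ u.2, one_pow, one_mul] at hm
    rw [hu', ← hm]
  -- so it centralises `N`
  have hker : (MulAction.toPermHom ↥N (Sylow 2 ↥N)).ker = ⊥ := by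
    refine (MonoidHom.normal_ker _).eq_bot_or_eq_top.resolve_right fun h => ?_
    have hall : ∀ R : Sylow 2 ↥N, R = PN := fun R => by
      obtain ⟨g, rfl⟩ := MulAction.exists_smul_eq ↥N PN R
      have hg : g ∈ (MulAction.toPermHom ↥N (Sylow 2 ↥N)).ker := h ▸ mem_top g
      exact congrArg (fun f : Equiv.Perm (Sylow 2 ↥N) => f PN) (MonoidHom.mem_ker.1 hg)
    haveI : Subsingleton (Sylow 2 ↥N) := ⟨fun R S => (hall R).trans (hall S).symm⟩
    rw [Nat.card_of_subsingleton PN] at hcount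
    omega
  refine mem_centralizer_iff.2 fun g hg => ?_
  have hφ : (MulAut.conjNormal x : MulAut ↥N) ⟨g, hg⟩ = ⟨g, hg⟩ := by
    refine (MonoidHom.ker_eq_bot_iff _).1 hker (Equiv.ext fun R => ?_)
    show (MulAut.conjNormal x : MulAut ↥N) ⟨g, hg⟩ • R = (⟨g, hg⟩ : ↥N) • R
    have h := hσsmul x ⟨g, hg⟩ R
    rw [key, key] at h
    exact h.symm
  have h := congrArg Subtype.val hφ
  rw [MulAut.conjNormal_apply] at h
  exact (mul_inv_eq_iff_eq_mul.1 h).symm

/-- If `G = N C(P)` with `N` a self-centralising `PSL(2, 2ⁿ)` over `P`, then `G = N`. -/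
theorem eq_top_of_even (P : Sylow 2 G) (hel : ∀ x ∈ (P : Subgroup G), x * x = 1)
    (N : Subgroup G) [N.Normal] (hPN : (P : Subgroup G) ≤ N)
    (hCN : centralizer (N : Set G) = ⊥)
    (hsup : N ⊔ centralizer ((P : Subgroup G) : Set G) = ⊤) {F : Type} [Field F] [Fintype F]
    {n : ℕ} (hn : 2 ≤ n) (hF : Fintype.card F = 2 ^ n)
    (e : ↥N ≃* Matrix.ProjectiveSpecialLinearGroup (Fin 2) F) : N = ⊤ := by
  rw [← hsup, left_eq_sup]
  intro x hx
  obtain ⟨a, m, hm, ham⟩ := Nat.exists_eq_two_pow_mul_odd (orderOf_pos x).ne'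
  have hord : orderOf (x ^ 2 ^ a) = m := by
    rw [orderOf_pow_of_dvd (by positivity) ⟨m, ham⟩, ham,
      Nat.mul_div_cancel_left _ (by positivity)]
  have h1 : x ^ 2 ^ a = 1 := by
    rw [← Subgroup.mem_bot, ← hCN]
    exact mem_centralizer_normal P hel N hPN hn hF e
      ((centralizer ((P : Subgroup G) : Set G)).pow_mem hx _) (hord ▸ hm)
  obtain ⟨k, -, hk⟩ := (Nat.dvd_prime_pow Nat.prime_two).1 (orderOf_dvd_of_pow_eq_one h1)
  exact hPN (U3Sylow80.mem_sylow_of_normalizes P (centralizer_le_normalizer _ hx) hk)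

end even

section odd

/-- `PSL(2, q)`, `q ≡ 3, 5 (mod 8)`, has Sylow `2`-subgroups of order four. -/
theorem card_psl_odd {F : Type} [Field F] [Fintype F]
    (hq : Fintype.card F % 8 = 3 ∨ Fintype.card F % 8 = 5) :
    ∃ m : ℕ, Odd m ∧ Nat.card (Matrix.ProjectiveSpecialLinearGroup (Fin 2) F) = 4 * m := by
  have h := LinearGroup.gcd_mul_card_PSL_two (F := F)
  rw [Nat.card_eq_fintype_card (α := F)] at h
  obtain ⟨i, hi⟩ : ∃ i, Fintype.card F = 2 * i + 1 := ⟨Fintype.card F / 2, by omega⟩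
  have e1 : (2 * i + 1) ^ 2 = 4 * (i * (i + 1)) + 1 := by ring
  rw [hi, show (2 * i + 1) ^ 2 - 1 = 4 * (i * (i + 1)) by omega,
    show 2 * i + 1 - 1 = 2 * i by omega, Nat.gcd_eq_left (dvd_mul_right 2 i)] at h
  obtain ⟨j, hj⟩ : ∃ j, i * (i + 1) = 2 * j ∧ Odd j := by
    rcases hq with hq | hq
    · obtain ⟨l, hl⟩ : ∃ l, i = 4 * l + 1 := ⟨i / 4, by omega⟩
      exact ⟨(4 * l + 1) * (2 * l + 1), by rw [hl]; ring, ⟨4 * l * l + 3 * l, by ring⟩⟩
    · obtain ⟨l, hl⟩ : ∃ l, i = 4 * l + 2 := ⟨i / 4, by omega⟩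
      exact ⟨(2 * l + 1) * (4 * l + 3), by rw [hl]; ring, ⟨4 * l * l + 5 * l + 1, by ring⟩⟩
  refine ⟨(2 * i + 1) * j, (odd_two_mul_add_one i).mul hj.2, ?_⟩
  rw [hj.1] at h
  linarith

/-- A character of degree `3` taking the value `-1` somewhere forces `q ≤ 7`. -/
theorem card_le_of_character {G : Type u} [Group G] {F : Type} [Field F] [Fintype F]
    (hodd : Odd (Fintype.card F)) (f : Matrix.SpecialLinearGroup (Fin 2) F →* G)
    (χ : Cfsg.IrrCharacter G) (h1 : (χ : G → ℂ) 1 = 3)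
    (hs : ∃ s, (χ : G → ℂ) (f s) = -1) : Fintype.card F ≤ 7 := by
  classical
  by_contra hq
  obtain ⟨s, hs⟩ := hs
  obtain ⟨m, hm⟩ := CharCore.IsCharacter.exists_sum
    (CharCore.isCharacter_comp (CharCore.irr_isCharacter χ) f)
  have hd : ∀ ψ : Cfsg.IrrCharacter (Matrix.SpecialLinearGroup (Fin 2) F),
      ∃ d : ℕ, (ψ : Matrix.SpecialLinearGroup (Fin 2) F → ℂ) 1 = (d : ℂ) ∧
        (ψ = Char2x2.trivIrr ∨ 4 ≤ d) := by
    intro ψ
    obtain ⟨k, hk⟩ := id hodd
    rcases Char2x2.sl_odd_cases hodd ψ with ⟨e, h⟩ | ⟨-, h⟩ | ⟨-, h⟩ | ⟨-, h⟩ | ⟨-, h⟩ | ⟨-, h⟩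
    · exact ⟨1, h, Or.inl e⟩
    all_goals exact ⟨_, h, Or.inr (by omega)⟩
  choose d hd1 hd2 using hd
  have heval := fun g => congrFun hm g
  simp only [Finset.sum_apply, Pi.smul_apply, smul_eq_mul] at heval
  have hsum : ∑ ψ, m ψ * d ψ = 3 := by
    have h := heval 1
    simp only [map_one, h1, hd1] at h
    exact_mod_cast h.symm
  have hzero : ∀ ψ, ψ ≠ Char2x2.trivIrr → m ψ = 0 := by
    intro ψ hψ
    have h4 := (hd2 ψ).resolve_left hψ
    have hle : m ψ * d ψ ≤ 3 :=
      hsum ▸ Finset.single_le_sum (f := fun φ => m φ * d φ) (fun _ _ => Nat.zero_le _)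
        (Finset.mem_univ ψ)
    by_contra h0
    nlinarith [Nat.one_le_iff_ne_zero.2 h0]
  have hone : ∀ g, (χ : G → ℂ) (f g) = m Char2x2.trivIrr := by
    intro g
    rw [heval g, Finset.sum_eq_single Char2x2.trivIrr]
    · simp [Char2x2.trivIrr, Char2x2.trivS]
    · intro ψ _ hψ
      rw [hzero ψ hψ, Nat.cast_zero, zero_mul]
    · exact fun h => absurd (Finset.mem_univ _) h
  have h3 := hone 1
  rw [map_one, h1, ← hone s, hs] at h3
  norm_num at h3

/-- `PSL(2, 5)` is a `PSL(2, 4)`. -/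
theorem exists_four {M : Type u} [Group M] {F : Type} [Field F] [Fintype F]
    (hF : Fintype.card F = 5) (e : M ≃* Matrix.ProjectiveSpecialLinearGroup (Fin 2) F) :
    ∃ (F' : Type) (_ : Field F') (_ : Fintype F'), Fintype.card F' = 2 ^ 2 ∧
      Nonempty (M ≃* Matrix.ProjectiveSpecialLinearGroup (Fin 2) F') := by
  haveI : Fact (Nat.Prime 2) := ⟨Nat.prime_two⟩
  have h4 : Nat.card (GaloisField 2 2) = 4 := GaloisField.card 2 2 two_ne_zero
  obtain ⟨a⟩ := LinearGroup.psl_two_five (F := F) (Nat.card_eq_fintype_card.trans hF)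
  have hb := LinearGroup.psl_two_small (F := GaloisField 2 2) (Or.inr h4)
  rw [h4] at hb
  obtain ⟨b⟩ := hb
  refine ⟨GaloisField 2 2, inferInstance, Fintype.ofFinite _, ?_, ⟨(e.trans a).trans b.symm⟩⟩
  rw [← @Nat.card_eq_fintype_card _ (Fintype.ofFinite _)]
  exact h4

end odd

/-- `FinishStmt`. -/
theorem finish (hKl : GW66.KleinStmt.{u}) : FinishStmt.{u} := by
  intro G _ _ P hel hcl h4 hO hK hN hχ
  classical
  haveI : Fact (Nat.Prime 2) := ⟨Nat.prime_two⟩
  have hcomm : ∀ a ∈ (P : Subgroup G), ∀ b ∈ (P : Subgroup G), a * b = b * a := by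
    intro a ha b hb
    have h := hel (a * b) ((P : Subgroup G).mul_mem ha hb)
    rw [← inv_eq_iff_mul_eq_one, mul_inv_rev] at h
    rw [← h, inv_eq_iff_mul_eq_one.2 (hel a ha), inv_eq_iff_mul_eq_one.2 (hel b hb)]
  have hab : IsMulCommutative (P : Subgroup G) :=
    ⟨⟨fun a b => Subtype.ext (hcomm _ a.2 _ b.2)⟩⟩
  have hinv : ∀ x ∈ (P : Subgroup G), x ≠ 1 → orderOf x = 2 := fun x hx hx1 =>
    orderOf_eq_prime (by rw [pow_two, hel x hx]) hx1
  have hcent : ∀ t : G, orderOf t = 2 → Group.IsSolvable (centralizer ({t} : Set G)) := by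
    intro t ht
    obtain ⟨K, hKn, hKodd, hKi⟩ := hK t ht
    haveI := hKn
    haveI : Group.IsSolvable K := PF14.feitThompson _ hKodd
    obtain ⟨a, ha⟩ := IsPGroup.iff_card.1 P.isPGroup'
    haveI : Group.IsNilpotent (↥(centralizer ({t} : Set G)) ⧸ K) :=
      (IsPGroup.of_card (p := 2) (n := a)
        (by rw [← Subgroup.index_eq_card, hKi, ha])).isNilpotent
    exact U3Sylow80.isSolvable_of_ext K
  -- a normal subgroup of even order contains `P`
  have hbig : ∀ N : Subgroup G, N.Normal → Even (Nat.card N) → (P : Subgroup G) ≤ N := by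
    intro N hNn hev x hx
    obtain ⟨t, ht⟩ := exists_prime_orderOf_dvd_card' (G := N) 2 (even_iff_two_dvd.1 hev)
    rcases eq_or_ne x 1 with rfl | hx1
    · exact N.one_mem
    obtain ⟨c, hc⟩ := isConj_iff.1 (hcl (t : G) x (by rw [Subgroup.orderOf_coe, ht]) (hinv x hx hx1))
    exact hc ▸ hNn.conj_mem _ t.2 c
  have hidx : ∀ N : Subgroup G, (P : Subgroup G) ≤ N → Odd N.index := fun N hPN => by
    rw [← Nat.not_even_iff_odd, even_iff_two_dvd]
    exact fun h => P.not_dvd_index (h.trans (Subgroup.index_dvd_of_le hPN))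
  have hns : ¬ Group.IsSolvable G := by
    intro hsol
    haveI : Nontrivial G := by
      obtain ⟨a, b, hab'⟩ := (Finite.one_lt_card_iff_nontrivial
        (α := ↥(P : Subgroup G))).1 (by omega)
      exact ⟨a, b, fun h => hab' (Subtype.ext h)⟩
    obtain ⟨A, hA⟩ := Fitting.exists_isMinNormal (G := G)
    haveI := hA.1
    haveI : Group.IsSolvable A := inferInstance
    haveI := hA.isMulCommutative
    obtain ⟨p, hp, hel'⟩ := hA.exists_isElementaryAbelian
    haveI : Fact p.Prime := ⟨hp⟩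
    have hpg : IsPGroup p A := Fitting.isPGroup_of_isElementaryAbelian hel'
    rcases hp.eq_two_or_odd' with rfl | hodd
    · have hAP : A ≤ (P : Subgroup G) :=
        le_sup_left.trans (P.is_maximal' (hpg.to_sup_of_normal_left P.isPGroup') le_sup_right).le
      obtain ⟨t, htA, ht⟩ := CISylow69.exists_inv_of_ne_bot hpg hA.2.1
      have hPA : (P : Subgroup G) ≤ A := hbig A hA.1 (even_iff_two_dvd.2
        (ht ▸ (Subgroup.orderOf_mk t htA).symm ▸ orderOf_dvd_natCard (⟨t, htA⟩ : A)))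
      have htop := hN A hA.1 (hidx A hPA)
      have hC : centralizer ((P : Subgroup G) : Set G) = ⊤ := by
        rw [← htop, right_eq_sup]
        exact fun a ha => mem_centralizer_iff.2 fun b hb => hcomm b hb a (hAP ha)
      obtain ⟨a, ha, b, hb, hne, ha1, hb1⟩ :
          ∃ a ∈ (P : Subgroup G), ∃ b ∈ (P : Subgroup G), a ≠ b ∧ a ≠ 1 ∧ b ≠ 1 := by
        have h3 : 2 < Nat.card ↥(P : Subgroup G) := by omega
        obtain ⟨a, ha⟩ := (Subgroup.ne_bot_iff_exists_ne_one).1
          (fun h : (P : Subgroup G) = ⊥ => by rw [h, Subgroup.card_bot] at h3; omega)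
        by_contra hno
        push Not at hno
        have hall : ∀ y : ↥(P : Subgroup G), y = 1 ∨ y = a := by
          intro y
          by_cases hy : y = a
          · exact Or.inr hy
          exact Or.inl (Subtype.ext (hno a a.2 y y.2 (fun h => hy (Subtype.ext h.symm))
            (fun h => ha (Subtype.ext h))))
        have : Nat.card ↥(P : Subgroup G) ≤ 2 := by
          refine (Nat.card_le_card_of_surjective (fun i : Fin 2 => if i = 0 then 1 else a)
            fun y => ?_).trans_eq (Nat.card_fin 2)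
          rcases hall y with rfl | rfl
          · exact ⟨0, rfl⟩
          · exact ⟨1, rfl⟩
        omega
      obtain ⟨c, hc⟩ := isConj_iff.1 (hcl a b (hinv a ha ha1) (hinv b hb hb1))
      have hcP : c ∈ centralizer ((P : Subgroup G) : Set G) := hC ▸ mem_top c
      rw [← mem_centralizer_iff.1 hcP a ha, mul_inv_cancel_right] at hc
      exact hne hc
    · obtain ⟨k, hk⟩ := IsPGroup.iff_card.1 hpg
      refine hA.2.1 (le_bot_iff.1 (le_of_le_of_eq ?_ hO))
      refine Thompson.le_pPrimeCore hA.1 (Nat.coprime_two_right.2 ?_)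
      rw [hk]
      exact hodd.pow
  obtain ⟨N, hNn, ⟨F, iF, iT, hq, ⟨e⟩⟩, hCN⟩ :=
    H40.AbSolv.exists_target Bender27.benderSplit hKl hO hns P hab hcent
  haveI := hNn
  have heven : Even (Nat.card N) := by
    rw [← Nat.not_odd_iff_even]
    intro h
    haveI : Group.IsSolvable N := PF14.feitThompson _ h
    have hb : N = ⊥ := H40.AbSolv.eq_bot_of_solvable_normal hO hns P hab hcent N
    rw [hb] at hCN
    exact hns (by
      haveI : Subsingleton G := ⟨fun a b => by
        have hm : ∀ g : G, g = 1 := fun g => Subgroup.mem_bot.1 (hCN ▸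
          (mem_centralizer_iff.2 fun y hy => by
            rw [Subgroup.mem_bot.1 hy, one_mul, mul_one]))
        rw [hm a, hm b]⟩
      infer_instance)
  have hPN := hbig N hNn heven
  have hsup := hN N hNn (hidx N hPN)
  obtain ⟨F', iF', iT', n, hn, hF', ⟨e'⟩⟩ : ∃ (F' : Type) (_ : Field F') (_ : Fintype F')
      (n : ℕ), 2 ≤ n ∧ Fintype.card F' = 2 ^ n ∧
        Nonempty (↥N ≃* Matrix.ProjectiveSpecialLinearGroup (Fin 2) F') := by
    rcases hq with ⟨hq8, hq5⟩ | ⟨n, hn, hF⟩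
    · obtain ⟨m, hm, hcard⟩ := card_psl_odd hq8
      have hP4 : Nat.card (P : Subgroup G) = 4 := by
        have hNc : Nat.card N = 4 * m := (Nat.card_congr e.toEquiv).trans hcard
        have hc := P.subtype hPN |>.card_eq_multiplicity
        rw [hNc, Nat.factorization_mul (by norm_num) (Nat.pos_of_ne_zero hm.pos.ne').ne',
          Finsupp.add_apply, Nat.factorization_eq_zero_of_not_dvd
            (n := m) (fun h => Nat.not_even_iff_odd.2 hm (even_iff_two_dvd.2 h)),
          add_zero, show (4 : ℕ) = 2 ^ 2 by norm_num,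
          Nat.prime_two.factorization_pow, Finsupp.single_eq_same] at hc
        rw [show (4 : ℕ) = 2 ^ 2 by norm_num, ← hc]
        exact Nat.card_congr (Subgroup.subgroupOfEquivOfLe hPN).toEquiv.symm
      obtain ⟨χ, hχ1, hχt⟩ := hχ hP4
      obtain ⟨t, ht⟩ := exists_prime_orderOf_dvd_card' (G := N) 2 (even_iff_two_dvd.1 heven)
      obtain ⟨s, hs⟩ := QuotientGroup.mk'_surjective
        (center (Matrix.SpecialLinearGroup (Fin 2) F)) (e t)
      have hle := card_le_of_character (Nat.odd_iff.2 (by omega))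
        (N.subtype.comp (e.symm.toMonoidHom.comp (QuotientGroup.mk' _))) χ hχ1
        ⟨s, by
          show (χ : G → ℂ) ((e.symm (QuotientGroup.mk' _ s) : N) : G) = -1
          rw [hs, MulEquiv.symm_apply_apply]
          exact hχt _ (by rw [Subgroup.orderOf_coe, ht])⟩
      obtain ⟨F', iF', iT', hF', he'⟩ := exists_four (by omega : Fintype.card F = 5) e
      exact ⟨F', iF', iT', 2, le_rfl, hF', he'⟩
    · exact ⟨F, iF, iT, n, hn, hF, ⟨e⟩⟩
  have htop := eq_top_of_even P hel N hPN hCN hsup hn hF' e'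
  exact ⟨F', iF', iT', n, hn, hF',
    ⟨((MulEquiv.subgroupCongr htop).trans Subgroup.topEquiv).symm.trans e'⟩⟩

end Cfsg.Agent.CD88
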