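import Cfsg.Agent.CD88.Defs

/-!
# S4514: interfaces of the character half

`Reduce.lean`: `ReduceStmt`.  `Degree.lean`: `DegreeStmt`.  `OrderEight.lean`: `OrderEightStmt`.
-/

set_option autoImplicit false

namespace Cfsg.Agent.CD88

open Subgroup

universe u

/-- `χ 1 - χ u = k` on the non-principal characters of the principal block. -/
def Const {G : Type u} [Group G] (M : Ideal Cfsg.AlgInt) (g : G) (k : ℂ) : Prop :=
  ∀ χ : Cfsg.IrrCharacter G, χ ∈ Cfsg.principalBlock M G → (χ : G → ℂ) ≠ (fun _ => 1) →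
    (χ : G → ℂ) 1 - (χ : G → ℂ) g = k

/-- The principal block only sees `G ⧸ O(G)`, and faithfully. -/
def ReduceStmt : Prop :=
  ∀ (G : Type u) [Group G] [Finite G] (M : Ideal Cfsg.AlgInt), Cfsg.IsPModular 2 M →
    (∀ (g : G) (k : ℂ), Const M g k ↔ Const M (g : G ⧸ Cfsg.oddCore G) k) ∧
    Cfsg.oddCore (G ⧸ Cfsg.oddCore G) = ⊥ ∧
    (Cfsg.oddCore G = ⊥ → ∀ g : G,
      (∀ χ ∈ Cfsg.principalBlock M G, (χ : G → ℂ) g = (χ : G → ℂ) 1) → g = 1)

/-- `Const` with `3 ≤ k`: no member of the block is trivial on `P`; no linear one at all. -/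
def DegreeStmt : Prop :=
  ∀ (G : Type u) [Group G] [Finite G] (M : Ideal Cfsg.AlgInt), Cfsg.IsPModular 2 M →
    ∀ (P : Sylow 2 G), (∀ x ∈ (P : Subgroup G), x * x = 1) →
    (∀ s t : G, orderOf s = 2 → orderOf t = 2 → IsConj s t) →
    2 ≤ Nat.card (P : Subgroup G) →
    ∀ (g : G) (k : ℕ), 3 ≤ k → Const M g k →
      (∀ χ : Cfsg.IrrCharacter G, χ ∈ Cfsg.principalBlock M G → (χ : G → ℂ) ≠ (fun _ => 1) →
        (Nat.card (P : Subgroup G) : ℝ) - 1 ≤ ((χ : G → ℂ) 1).re) ∧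
      (∀ N : Subgroup G, N.Normal → Odd N.index →
        N ⊔ centralizer ((P : Subgroup G) : Set G) = ⊤)

/-- An elementary abelian Sylow 2-subgroup of order 8 with a non-solvable centraliser cannot
carry a constant `χ 1 - χ (z * v)`. -/
def OrderEightStmt : Prop :=
  ∀ (G : Type u) [Group G] [Finite G] (M : Ideal Cfsg.AlgInt), Cfsg.IsPModular 2 M →
    ∀ (P : Sylow 2 G), (∀ x ∈ (P : Subgroup G), x * x = 1) →
    (∀ s t : G, orderOf s = 2 → orderOf t = 2 → IsConj s t) →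
    Nat.card (P : Subgroup G) = 8 →
    ∀ z : G, orderOf z = 2 → ¬ Group.IsSolvable ↥(centralizer ({z} : Set G)) →
    ∀ v : ↥(centralizer ({z} : Set G)), ¬ 2 ∣ orderOf v →
    ∀ k : ℕ, 0 < k → Const M (z * (v : G)) k →
    (3 ≤ k → ∀ χ : Cfsg.IrrCharacter G, χ ∈ Cfsg.principalBlock M G →
      (χ : G → ℂ) ≠ (fun _ => 1) → (7 : ℝ) ≤ ((χ : G → ℂ) 1).re) →
    False

end Cfsg.Agent.CD88
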