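import Cfsg.Agent.CD88.Interfaces
import Cfsg.Agent.Lib.BlocksDefect.Quotient
import Cfsg.Agent.Lib.Thompson.Cores
import Cfsg.Agent.S0938
import Cfsg.Agent.TwoFusionB.QDSimple

/-!
# S4514: passing to `G ⧸ O(G)`
-/

set_option autoImplicit false

namespace Cfsg.Agent.CD88

open Cfsg BlocksCore BlocksDefect

universe u

variable {G : Type u} [Group G] [Finite G] {M : Ideal AlgInt}

theorem bijOn_inflate_principalBlock (hM : IsPModular 2 M) (N : Subgroup G) [N.Normal]
    (hN : ¬ 2 ∣ Nat.card N) :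
    Set.BijOn (BlocksDefect.inflate N) (principalBlock M (G ⧸ N)) (principalBlock M G) := by
  haveI : Fact (Nat.Prime 2) := ⟨Nat.prime_two⟩
  have := isPrime hM
  let o : IrrCharacter (G ⧸ N) := ⟨fun _ => 1, CharCore.isIrrCharacter_one⟩
  refine ⟨fun ψ hψ => BlocksDefect.sameBlock_inflate N hM (χ := o) hψ, ?_, ?_⟩
  · intro a _ b _ he
    refine Subtype.ext (funext fun q => ?_)
    obtain ⟨g, rfl⟩ := QuotientGroup.mk_surjective q
    exact congrFun (congrArg Subtype.val he) g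
  · intro χ hχ
    have hk := BlocksDefect.kernel_of_sameBlock hM
      (χ := (⟨fun _ => 1, CharCore.isIrrCharacter_one⟩ : IrrCharacter G)) hχ N hN (fun n _ => rfl)
    obtain ⟨ψ, rfl⟩ := BlocksDefect.exists_inflate_eq N χ hk
    exact ⟨ψ, BlocksDefect.sameBlock_of_inflate_pPrime hM hN (χ := o) hχ, rfl⟩

theorem const_quotient_iff (hM : IsPModular 2 M) (N : Subgroup G) [N.Normal]
    (hN : ¬ 2 ∣ Nat.card N) (g : G) (k : ℂ) : Const M g k ↔ Const M (g : G ⧸ N) k := by
  have hb := bijOn_inflate_principalBlock hM N hN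
  constructor
  · intro h ψ hψ hne
    refine h (BlocksDefect.inflate N ψ) (hb.mapsTo hψ) fun he => hne (funext fun q => ?_)
    obtain ⟨x, rfl⟩ := QuotientGroup.mk_surjective q
    exact congrFun he x
  · intro h χ hχ hne
    obtain ⟨ψ, hψ, rfl⟩ := hb.surjOn hχ
    exact h ψ hψ fun he => hne (funext fun x => congrFun he (x : G ⧸ N))

theorem eq_one_of_mem_blockKer (hM : IsPModular 2 M) (hO : Cfsg.oddCore G = ⊥) {g : G}
    (hg : ∀ χ ∈ principalBlock M G, (χ : G → ℂ) g = (χ : G → ℂ) 1) : g = 1 := by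
  haveI : Fact (Nat.Prime 2) := ⟨Nat.prime_two⟩
  have := isPrime hM
  let o : IrrCharacter G := ⟨fun _ => 1, CharCore.isIrrCharacter_one⟩
  obtain ⟨K, hKn, hK, hK2, -, -⟩ := S0938.result 2 M hM (principalBlock M G)
    (isPBlock_blockOf o) o (mem_blockOf_self o)
  have hle : K ≤ Cfsg.oddCore G :=
    Thompson.le_pPrimeCore hKn ((Nat.prime_two.coprime_iff_not_dvd.mpr hK2).symm)
  have hmem : g ∈ (K : Set G) := by rw [hK]; exact hg
  exact Subgroup.mem_bot.mp (hO ▸ hle hmem)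

theorem reduce : ReduceStmt.{u} := by
  intro G _ _ M hM
  haveI : Fact (Nat.Prime 2) := ⟨Nat.prime_two⟩
  exact ⟨fun g k => const_quotient_iff hM (Cfsg.oddCore G) Thompson.not_dvd_card_pPrimeCore g k,
    TwoFusionB.oddCore_quotient_eq_bot G, fun hO g hg => eq_one_of_mem_blockKer hM hO hg⟩

end Cfsg.Agent.CD88
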