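import Cfsg.Agent.CD88.Defs
import Cfsg.Agent.Char2x2.SLEven

/-!
# The values of `PSL(2, 2ⁿ)` at an involution

Every nontrivial irreducible character of `SL(2, q)`, `q` even, has degree `q`, `q + 1` or `q - 1`
and takes the value `0`, `1`, `-1` at an involution.
-/

set_option autoImplicit false

namespace Cfsg.Agent.CD88

open Cfsg.Agent.Char2x2

universe u

section

variable {F : Type*} [Field F] [Fintype F] [DecidableEq F] [CharP F 2]

local notation "SL2" => Matrix.SpecialLinearGroup (Fin 2) F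

omit [DecidableEq F] in
theorem eq_one_of_scalar {g : SL2} (hg : ¬ NonScalar (sm g)) : g = 1 := by
  obtain ⟨⟨c, hc⟩, rfl⟩ := exists_scalarSL hg
  have hc1 : c = 1 := frobenius_inj F 2 (by simpa [frobenius_def] using hc)
  exact Subtype.ext (by simp [scalarSL, hc1])

theorem isConj_uS_one {g : SL2} (hg1 : g ≠ 1) (hg2 : g ^ 2 = 1) : IsConj (uS 1) g := by
  have hns : NonScalar (sm g) := by
    by_contra h
    exact hg1 (eq_one_of_scalar h)
  refine sl_isConj_char_two (nonScalar_uS one_ne_zero) hns ?_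
  have h2 : (2 : F) = 0 := CharTwo.two_eq_zero
  rw [trace_uS, h2, eq_comm]
  have hm : sm g * sm g = 1 := by
    have := congrArg sm (show g * g = 1 by rw [← sq, hg2])
    exact this
  have hd : (sm g).det = 1 := g.2
  rw [Matrix.det_fin_two] at hd
  have e0 := congrFun (congrFun hm 0) 0
  simp only [Matrix.mul_apply, Fin.sum_univ_two, Matrix.one_apply_eq] at e0
  rw [Matrix.trace_fin_two]
  have e1 := congrFun (congrFun hm 1) 1
  simp only [Matrix.mul_apply, Fin.sum_univ_two, Matrix.one_apply_eq] at e1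
  have hsq : (sm g 0 0 + sm g 1 1) ^ 2 = 0 := by
    linear_combination e0 + e1 + 2 * hd + 2 * h2
  exact pow_eq_zero_iff two_ne_zero |>.mp hsq

theorem sl_even_sub (χ : Cfsg.IrrCharacter SL2) (hne : (χ : SL2 → ℂ) ≠ fun _ => 1) {g : SL2}
    (hg1 : g ≠ 1) (hg2 : g ^ 2 = 1) :
    (χ : SL2 → ℂ) 1 - (χ : SL2 → ℂ) g = (Fintype.card F : ℂ) := by
  rw [← eq_of_isConj (CharCore.irr_isCharacter χ) (isConj_uS_one hg1 hg2)]
  rcases sl_even_cases χ with ⟨e, -⟩ | ⟨e, h⟩ | ⟨-, h, h'⟩ | ⟨-, h, h'⟩
  · exact absurd (funext fun x => by simp [e, trivIrr, trivS]) hne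
  · rw [h, e]
    simp [stIrr, stS_uS one_ne_zero]
  · rw [h, h']
    ring
  · rw [h, h']
    ring

end

/-- The values at an involution of the irreducible characters of `PSL(2, 2ⁿ)`. -/
theorem reverse : ReverseStmt.{u} := by
  intro G _ _ M _ F _ _ n _ hcard ⟨e⟩ u hu1 hu2 χ _ hne
  classical
  have : CharP F 2 := by
    haveI : Fact (Nat.Prime 2) := ⟨Nat.prime_two⟩
    exact charP_of_card_eq_prime_pow hcard
  let q := QuotientGroup.mk' (Subgroup.center (Matrix.SpecialLinearGroup (Fin 2) F))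
  have hq : Function.Injective q := by
    rw [← MonoidHom.ker_eq_bot_iff, QuotientGroup.ker_mk', Subgroup.eq_bot_iff_forall]
    intro A hA
    obtain ⟨r, -, hr⟩ := Matrix.SpecialLinearGroup.mem_center_iff.mp hA
    refine eq_one_of_scalar fun hns => ?_
    rw [show sm A = r • 1 by
      show (A : Matrix (Fin 2) (Fin 2) F) = r • 1
      rw [← hr, Matrix.scalar_apply, Matrix.smul_one_eq_diagonal]] at hns
    exact not_nonScalar_smul_one r hns
  let b : Matrix.SpecialLinearGroup (Fin 2) F ≃* G :=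
    (MulEquiv.ofBijective q ⟨hq, QuotientGroup.mk'_surjective _⟩).trans e.symm
  let ψ : Cfsg.IrrCharacter (Matrix.SpecialLinearGroup (Fin 2) F) :=
    ⟨fun x => (χ : G → ℂ) (b x),
      CharCore.isIrrCharacter_comp_surjective χ.2 b.toMonoidHom b.surjective⟩
  have h := sl_even_sub ψ (fun hψ => hne (funext fun g => by
      simpa [ψ] using congrFun hψ (b.symm g)))
    (g := b.symm u) (fun h => hu1 (by simpa using congrArg b h))
    (by rw [← map_pow, hu2, map_one])
  simpa [ψ, hcard] using h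

end Cfsg.Agent.CD88
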