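import Cfsg.Agent.CD88.Defs
import Cfsg.Agent.H40.AbSolv.Main
import Cfsg.Agent.Bender27.Main
import Cfsg.Agent.Bender20.Semilinear
import Cfsg.Agent.ProdFus42.DD.Fusion
import Cfsg.Agent.Lib.Dickson.Solubilizer
import Cfsg.Agent.Lib.LinearGroup.Simple
import Cfsg.Agent.PF14.Compose

/-!
# One class of involutions and elementary abelian Sylow 2-subgroups: solvable centralisers
-/

set_option autoImplicit false
set_option linter.style.haveILetI false

namespace Cfsg.Agent.CD88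

open Subgroup
open scoped commutatorElement

universe u

namespace Structure

/-- An odd group transitive on an elementary abelian 2-group: the stabiliser of a point consists of
field automorphisms. -/
theorem semilinear_fix {P : Type u} [Group P] [Finite P] (hP : ∀ v : P, v * v = 1)
    (R : Subgroup (MulAut P)) (hodd : Odd (Nat.card R))
    (htr : ∀ v w : P, v ≠ 1 → w ≠ 1 → ∃ f ∈ R, f v = w)
    {n : ℕ} (hn : Nat.card P = 2 ^ n) {z : P} (hz : z ≠ 1)
    {A : Subgroup (MulAut P)} (hAR : A ≤ R) (hAz : ∀ f ∈ A, f z = z) :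
    Nat.card A ≤ n ∧ ∀ f ∈ A, f ≠ 1 → ∃ m d : ℕ, 3 ≤ m ∧ n = m * d ∧
      Nat.card {v : P // f v = v} = 2 ^ d := by
  classical
  haveI : Fact (Nat.Prime 2) := ⟨Nat.prime_two⟩
  haveI : Nontrivial P := ⟨⟨z, 1, hz⟩⟩
  have hinv : ∀ v : P, v⁻¹ = v := fun v => inv_eq_of_mul_eq_one_right (hP v)
  have hcomm : ∀ a b : P, a * b = b * a := fun a b => by
    rw [← hinv (a * b), mul_inv_rev, hinv, hinv]
  letI : CommGroup P := { ‹Group P› with mul_comm := hcomm }
  letI iM : Module (ZMod 2) (Additive P) := AddCommGroup.zmodModule (n := 2) (fun x => by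
    show Additive.ofMul (x.toMul ^ 2) = 0
    rw [sq, hP]; rfl)
  let toLin : MulAut P →* (Additive P ≃ₗ[ZMod 2] Additive P) := MonoidHom.mk'
    (fun f => (MulEquiv.toAdditive f).toLinearEquiv
      (fun c x => ZMod.map_smul (MulEquiv.toAdditive f) c x))
    (fun f g => LinearEquiv.ext fun x => rfl)
  let ρ : R →* (Additive P ≃ₗ[ZMod 2] Additive P) := toLin.comp R.subtype
  have hρ : Function.Injective ρ := fun r s h => Subtype.ext (MulEquiv.ext fun v =>
    Additive.ofMul.injective (LinearEquiv.congr_fun h (Additive.ofMul v)))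
  have htrans : ∀ v w : Additive P, v ≠ 0 → w ≠ 0 → ∃ g : R, ρ g v = w := fun v w hv hw => by
    obtain ⟨f, hfR, hf⟩ := htr v.toMul w.toMul (fun h => hv (toMul_eq_one.1 h))
      (fun h => hw (toMul_eq_one.1 h))
    exact ⟨⟨f, hfR⟩, congrArg Additive.ofMul hf⟩
  have hcV : Nat.card (Additive P) = 2 ^ n := (Nat.card_congr Additive.toMul).trans hn
  rcases Huppert69.semilinear_or_exceptional (PF14.feitThompson _ hodd) hρ htrans with
    ⟨F, fF, ftF, E, hsl⟩ | ⟨-, hex⟩
  swap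
  · exfalso
    rcases hex with h81 | ⟨-, hq⟩
    · rw [hcV] at h81
      have : 2 ∣ 81 := h81 ▸ dvd_pow_self 2 (by rintro rfl; simp at h81)
      omega
    · omega
  have hcF : Nat.card F = 2 ^ n := by rw [← Nat.card_congr E.toEquiv, hcV]
  haveI : Finite (RingAut F) :=
    Finite.of_injective (fun f : RingAut F => (f : F → F)) DFunLike.coe_injective
  have hAut : Nat.card (RingAut F) = n :=
    CG26.card_fieldAut 2 n (by rw [← Nat.card_eq_fintype_card]; exact hcF)
  set c : F := E (Additive.ofMul z) with hcdef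
  have hc : c ≠ 0 := fun h => hz (Additive.ofMul.injective (E.injective (h.trans (map_zero E).symm)))
  let e₀ : P ≃ F :=
    { toFun := fun v => E (Additive.ofMul v) / c
      invFun := fun y => (E.symm (y * c)).toMul
      left_inv := fun v => by simp [div_mul_cancel₀ _ hc]
      right_inv := fun y => by simp [mul_div_cancel_right₀ _ hc] }
  have hsl' : ∀ f : A, ∃ s : F ≃+* F, ∀ v : P, e₀ ((f : MulAut P) v) = s (e₀ v) := fun f => by
    obtain ⟨a, s, h⟩ := hsl ⟨f, hAR f.2⟩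
    refine ⟨s, fun v => ?_⟩
    have h1 : ∀ v : P, E (Additive.ofMul ((f : MulAut P) v)) = a * s (E (Additive.ofMul v)) :=
      fun v => h (Additive.ofMul v)
    have h2 : c = a * s c := by
      have := h1 z
      rwa [hAz _ f.2] at this
    show E (Additive.ofMul ((f : MulAut P) v)) / c = s (E (Additive.ofMul v) / c)
    rw [h1 v, map_div₀]
    conv_lhs => rw [h2]
    rw [mul_div_mul_left _ _ (left_ne_zero_of_mul (h2 ▸ hc))]
  choose s hs using hsl'
  let S : A →* RingAut F := MonoidHom.mk' s fun f g => RingEquiv.ext fun y => by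
    obtain ⟨v, rfl⟩ := e₀.surjective y
    rw [← hs]
    show e₀ ((f : MulAut P) ((g : MulAut P) v)) = s f (s g (e₀ v))
    rw [hs, hs]
  have hSinj : Function.Injective S := fun f g h => Subtype.ext (MulEquiv.ext fun v =>
    e₀.injective (by rw [hs, hs, show s f = s g from h]))
  refine ⟨hAut ▸ Nat.card_le_card_of_injective S hSinj, fun f hf hf1 => ?_⟩
  set σ : F ≃+* F := s ⟨f, hf⟩ with hσ
  have hm : orderOf σ = orderOf f := by
    rw [← Subgroup.orderOf_mk f hf]; exact orderOf_injective S hSinj _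
  have hmodd : Odd (orderOf σ) := hodd.of_dvd_nat
    (by rw [hm]; exact Subgroup.orderOf_dvd_natCard _ (hAR hf))
  have hm1 : orderOf σ ≠ 1 := fun h => hf1 (orderOf_eq_one_iff.1 (hm ▸ h))
  have hfix : Nat.card {v : P // f v = v} = Nat.card {w : F // σ w = w} :=
    Nat.card_congr (e₀.subtypeEquiv fun v => by
      rw [hσ, ← hs ⟨f, hf⟩ v]; exact e₀.injective.eq_iff.symm)
  have hpow := Bender20.card_fix_pow σ
  rw [← hfix, hcF] at hpow
  obtain ⟨d, -, hd⟩ := (Nat.dvd_prime_pow Nat.prime_two).1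
    (hpow ▸ dvd_pow_self (Nat.card {v : P // f v = v}) (orderOf_pos σ).ne')
  refine ⟨orderOf σ, d, Bender20.three_le_of_odd hmodd hm1, ?_, hd⟩
  rw [hd, ← pow_mul] at hpow
  rw [mul_comm]
  exact (Nat.pow_right_injective le_rfl hpow).symm

/-- The facts used about `PSL(2, q)`. -/
theorem psl_facts {F : Type} [Field F] [Fintype F]
    (hq : ((Fintype.card F % 8 = 3 ∨ Fintype.card F % 8 = 5) ∧ 5 ≤ Fintype.card F) ∨
      (∃ k : ℕ, 2 ≤ k ∧ Fintype.card F = 2 ^ k)) :
    ¬ Group.IsSolvable (Matrix.ProjectiveSpecialLinearGroup (Fin 2) F) ∧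
      4 ∣ Nat.card (Matrix.ProjectiveSpecialLinearGroup (Fin 2) F) ∧
      ∀ x y : Matrix.ProjectiveSpecialLinearGroup (Fin 2) F, orderOf x = 2 → orderOf y = 2 →
        IsConj x y := by
  classical
  have h4 : 4 ≤ Fintype.card F := by
    rcases hq with ⟨-, h⟩ | ⟨k, hk, h⟩
    · omega
    · rw [h]; exact le_trans (by norm_num) (Nat.pow_le_pow_right two_pos hk)
  have ha : ∃ a : F, a ≠ 0 ∧ a ^ 2 ≠ 1 := by
    by_contra! h
    have hsub : (Finset.univ : Finset F) ⊆ {0, 1, -1} := fun x _ => by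
      by_cases hx : x = 0
      · simp [hx]
      · rcases sq_eq_one_iff.1 (h x hx) with h' | h' <;> simp [h']
    have := (Finset.card_le_card hsub).trans Finset.card_le_three
    rw [Finset.card_univ] at this
    omega
  have hgcd := LinearGroup.gcd_mul_card_PSL_two (F := F)
  rw [Nat.card_eq_fintype_card (α := F)] at hgcd
  have h4d : 4 ∣ Nat.card (Matrix.ProjectiveSpecialLinearGroup (Fin 2) F) := by
    rcases hq with ⟨h, -⟩ | ⟨k, hk, h⟩
    · rw [Nat.gcd_eq_left (by omega)] at hgcd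
      have h8 : 8 ∣ Fintype.card F ^ 2 - 1 := by
        obtain ⟨j, hj⟩ : ∃ j, Fintype.card F = 2 * j + 1 := ⟨Fintype.card F / 2, by omega⟩
        rw [hj]
        obtain ⟨l, hl⟩ := Nat.even_mul_succ_self j
        exact ⟨l, by
          have : (2 * j + 1) ^ 2 = 4 * (j * (j + 1)) + 1 := by ring
          omega⟩
      obtain ⟨w, hw⟩ := dvd_mul_of_dvd_right h8 (Fintype.card F)
      exact ⟨w, by omega⟩
    · have he : Even (Fintype.card F) := h ▸ Nat.even_pow.2 ⟨even_two, by omega⟩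
      rw [(Nat.coprime_two_left.mpr (by grind)).gcd_eq_one, one_mul, h] at hgcd
      rw [hgcd]
      exact dvd_mul_of_dvd_left (pow_dvd_pow 2 hk) _
  refine ⟨fun hsol => ?_, h4d, fun x y hx hy => ?_⟩
  · haveI := hsol
    haveI : Nontrivial (Matrix.ProjectiveSpecialLinearGroup (Fin 2) F) :=
      Finite.one_lt_card_iff_nontrivial.1
        (lt_of_lt_of_le (by norm_num) (Nat.le_of_dvd Nat.card_pos h4d))
    exact (Group.IsSolvable.commutator_lt_top_of_nontrivial _).ne
      (LinearGroup.commutator_PSL_eq_top (ι := Fin 2) (F := F) fun _ => ha)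
  · rcases hq with ⟨h, -⟩ | ⟨k, hk, h⟩
    · have h2 : (2 : F) ≠ 0 := Ring.two_ne_zero fun e2 => by
        have := FiniteField.even_card_of_char_two e2
        omega
      exact isConj_iff.2 (Dickson.isConj_involutions h2 hx hy)
    · haveI : Fact (Nat.Prime 2) := ⟨Nat.prime_two⟩
      haveI : CharP F 2 := by
        obtain ⟨p, hp⟩ := CharP.exists F
        haveI := hp
        obtain ⟨m, hpp, hm⟩ := FiniteField.card F p
        have hp2 : p = 2 := (Nat.prime_dvd_prime_iff_eq hpp Nat.prime_two).1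
          (hpp.dvd_of_dvd_pow (n := k) (by rw [← h, hm]; exact dvd_pow_self p m.pos.ne'))
        exact hp2 ▸ hp
      suffices key : ∀ x : Matrix.ProjectiveSpecialLinearGroup (Fin 2) F, orderOf x = 2 →
          IsConj x (QuotientGroup.mk (PLocalB.upper 1)) from (key x hx).trans (key y hy).symm
      intro x hx
      have hx2 : x ^ 2 = 1 := by
        have := pow_orderOf_eq_one x
        rwa [hx] at this
      obtain ⟨c, b, hb, hcx⟩ := Dickson.exists_conj_upper 2 (x := x)
        hx2 (fun e => by rw [e, orderOf_one] at hx; omega)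
      obtain ⟨r, hr⟩ := FiniteField.isSquare_of_char_two (ringChar.eq F 2) b
      have hr0 : r ≠ 0 := fun e => hb (by rw [hr, e, zero_mul])
      refine (isConj_iff.2 ⟨c, hcx⟩).trans (IsConj.symm (isConj_iff.2
        ⟨QuotientGroup.mk (PLocalB.diagOne r hr0), ?_⟩))
      rw [mul_inv_eq_iff_eq_mul, ← QuotientGroup.mk_mul, ← QuotientGroup.mk_mul]
      congr 1
      refine Subtype.ext ?_
      show (PLocalB.diagOne r hr0).1 * (PLocalB.upper 1).1 =
        (PLocalB.upper b).1 * (PLocalB.diagOne r hr0).1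
      ext i j
      fin_cases i <;> fin_cases j <;>
        simp [PLocalB.upper, PLocalB.diagOne, Matrix.mul_apply, Fin.sum_univ_two, hr]

/-- A central quotient has solvable involution centralisers. -/
theorem solvable_centralizer_quotient {H : Type u} [Group H] [Finite H] (T : Sylow 2 H)
    (hel : ∀ v ∈ (T : Subgroup H), v * v = 1)
    (hmin : ∀ L : Subgroup H, (T : Subgroup H) ≤ L → L ≠ ⊤ → Group.IsSolvable L)
    (Z : Subgroup H) [Z.Normal] (hZT : Z ≤ (T : Subgroup H)) (hZc : Z ≤ center H)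
    (hZ : ∀ v ∈ (T : Subgroup H), v ∈ center H → v ∈ Z) :
    ∀ t : H ⧸ Z, orderOf t = 2 → Group.IsSolvable (centralizer ({t} : Set (H ⧸ Z))) := by
  haveI : Fact (Nat.Prime 2) := ⟨Nat.prime_two⟩
  set π := QuotientGroup.mk' Z with hπ
  have hsurj : Function.Surjective π := QuotientGroup.mk'_surjective Z
  intro t ht
  obtain ⟨Q, hQ⟩ := (IsPGroup.of_card (n := 1) (by rw [Nat.card_zpowers, ht, pow_one]) :
    IsPGroup 2 ↥(zpowers t)).exists_le_sylow
  obtain ⟨g, rfl⟩ := MulAction.exists_smul_eq (H ⧸ Z) (T.mapSurjective hsurj) Q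
  have htQ := hQ (mem_zpowers t)
  rw [Sylow.coe_subgroup_smul] at htQ
  obtain ⟨t₀, ⟨w, hwT, rfl⟩, ht₀⟩ := htQ
  rw [MulDistribMulAction.toMonoidEnd_apply, MulDistribMulAction.toMonoidHom_apply,
    MulAut.smul_def, MulAut.conj_apply] at ht₀
  have hwc : w ∉ center H := fun h => by
    have : π w = 1 := (QuotientGroup.eq_one_iff w).2 (hZ w hwT h)
    rw [← ht₀, this, mul_one, mul_inv_cancel, orderOf_one] at ht
    omega
  have hTC : (T : Subgroup H) ≤ centralizer ({w} : Set H) := fun v hv => by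
    rw [mem_centralizer_singleton_iff]
    have hi : ∀ u ∈ (T : Subgroup H), u⁻¹ = u := fun u hu => inv_eq_of_mul_eq_one_right (hel u hu)
    rw [← hi _ (mul_mem hv hwT), mul_inv_rev, hi _ hv, hi _ hwT]
  set L := (centralizer ({π w} : Set (H ⧸ Z))).comap π with hL
  have hTL : (T : Subgroup H) ≤ L := fun v hv => by
    rw [hL, mem_comap, mem_centralizer_singleton_iff, ← map_mul, ← map_mul,
      mem_centralizer_singleton_iff.1 (hTC hv)]
  have hZmem : ∀ c : L, ⁅(c : H), w⁆ ∈ Z := fun c => by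
    rw [← QuotientGroup.eq_one_iff]
    show π ⁅(c : H), w⁆ = 1
    rw [map_commutatorElement, commutatorElement_eq_one_iff_commute]
    exact mem_centralizer_singleton_iff.1 c.2
  let ψ : L →* Z := MonoidHom.mk' (fun c => ⟨⁅(c : H), w⁆, hZmem c⟩) fun c d => Subtype.ext (by
    show ⁅(c : H) * d, w⁆ = ⁅(c : H), w⁆ * ⁅(d : H), w⁆
    have h := mem_center_iff.1 (hZc (hZmem d)) (c : H)
    calc ⁅(c : H) * d, w⁆ = c * ⁅(d : H), w⁆ * (c : H)⁻¹ * ⁅(c : H), w⁆ := by
          simp only [commutatorElement_def]; group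
      _ = ⁅(d : H), w⁆ * ⁅(c : H), w⁆ := by rw [h, mul_inv_cancel_right]
      _ = _ := (mem_center_iff.1 (hZc (hZmem c)) _))
  have hker : ψ.ker = ⊤ := by
    rw [← index_eq_one]
    obtain ⟨j, hj⟩ := IsPGroup.iff_card.1 (T.isPGroup'.to_le hZT)
    have hd : ψ.ker.index ∣ 2 ^ j := hj ▸ (index_ker ψ ▸ card_subgroup_dvd_card ψ.range)
    obtain ⟨i, -, hi⟩ := (Nat.dvd_prime_pow Nat.prime_two).1 hd
    rcases i with _ | i
    · simpa using hi
    · exfalso
      refine (T.subtype hTL).not_dvd_index (dvd_trans ?_ (index_dvd_of_le (H := (T.subtype hTL : Subgroup L)) (K := ψ.ker) ?_))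
      · rw [hi]; exact dvd_pow_self 2 (Nat.succ_ne_zero i)
      · intro c hc
        refine Subtype.ext ?_
        show ⁅(c : H), w⁆ = 1
        rw [commutatorElement_eq_one_iff_commute]
        exact mem_centralizer_singleton_iff.1 (hTC hc)
  have hLC : L ≤ centralizer ({w} : Set H) := fun c hc => by
    have : (⟨c, hc⟩ : L) ∈ ψ.ker := hker ▸ mem_top _
    have h := congrArg Subtype.val (MonoidHom.mem_ker.1 this)
    rw [mem_centralizer_singleton_iff]
    exact (commutatorElement_eq_one_iff_commute.1 h).eq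
  haveI := hmin _ hTC fun h => hwc (mem_center_iff.2 fun v => by
    have : v ∈ centralizer ({w} : Set H) := h ▸ mem_top v
    exact mem_centralizer_singleton_iff.1 this)
  haveI : Group.IsSolvable L :=
    Group.isSolvable_of_isSolvable_injective (inclusion_injective hLC)
  haveI : Group.IsSolvable (L.map π) :=
    Group.isSolvable_of_surjective (π.subgroupMap_surjective L)
  haveI : Group.IsSolvable ((L.map π).map (MulAut.conj g).toMonoidHom) :=
    Group.isSolvable_of_surjective ((MulAut.conj g).toMonoidHom.subgroupMap_surjective _)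
  refine Group.isSolvable_of_isSolvable_injective (inclusion_injective
    (?_ : centralizer ({t} : Set (H ⧸ Z)) ≤ (L.map π).map (MulAut.conj g).toMonoidHom))
  intro c hc
  rw [hL, map_comap_eq_self_of_surjective hsurj]
  refine ⟨g⁻¹ * c * g, ?_, by simp [mul_assoc]⟩
  rw [mem_centralizer_singleton_iff] at hc
  show g⁻¹ * c * g ∈ centralizer _
  rw [mem_centralizer_singleton_iff, show π w = g⁻¹ * t * g by rw [← ht₀]; group]
  calc g⁻¹ * c * g * (g⁻¹ * t * g) = g⁻¹ * (c * t) * g := by group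
    _ = g⁻¹ * (t * c) * g := by rw [hc]
    _ = g⁻¹ * t * g * (g⁻¹ * c * g) := by group

/-- The normaliser of the image of a Sylow subgroup is the image of the normaliser. -/
theorem exists_lift_normalizer {H W : Type*} [Group H] [Finite H] [Group W] (T : Sylow 2 H)
    (π : H →* W) (hπ : Function.Surjective π) {w : W}
    (hw : w ∈ normalizer (((T : Subgroup H).map π : Subgroup W) : Set W)) :
    ∃ u ∈ normalizer ((T : Subgroup H) : Set H), π u = w := by
  haveI : Fact (Nat.Prime 2) := ⟨Nat.prime_two⟩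
  obtain ⟨u, rfl⟩ := hπ w
  set K := ((T : Subgroup H).map π).comap π with hK
  have hTK : (T : Subgroup H) ≤ K := le_comap_map π _
  have hTu : ((u • T : Sylow 2 H) : Subgroup H) ≤ K := by
    rw [Sylow.coe_subgroup_smul]
    rintro _ ⟨v, hv, rfl⟩
    show π (u * v * u⁻¹) ∈ (T : Subgroup H).map π
    rw [map_mul, map_mul, map_inv]
    exact (mem_normalizer_iff.1 hw _).1 ⟨v, hv, rfl⟩
  obtain ⟨k, hk⟩ := MulAction.exists_smul_eq K ((u • T).subtype hTu) (T.subtype hTK)
  rw [Sylow.smul_subtype] at hk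
  have hk' : (k : H) • (u • T) = T := Sylow.subtype_injective hk
  obtain ⟨v, hv, hvk⟩ := k.2
  refine ⟨v⁻¹ * (k * u), mul_mem (inv_mem (le_normalizer hv))
    (Sylow.smul_eq_iff_mem_normalizer.mp (by rw [mul_smul]; exact hk')), ?_⟩
  rw [map_mul, map_inv, map_mul, hvk, inv_mul_cancel_left]

/-- The arithmetic of the final step. -/
theorem false_of_bounds {n m d : ℕ} (hm : 3 ≤ m) (hn : n = m * d) (h3 : 3 ≤ n) (h8 : n ≠ 3)
    (h : 2 ^ n ≤ (n + 1) * 2 ^ d) : False := by
  have hd : 3 * d ≤ n := hn ▸ Nat.mul_le_mul_right d hm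
  obtain ⟨k, hk⟩ : ∃ k, n = d + k := ⟨n - d, by omega⟩
  have hk3 : 3 ≤ k := by omega
  rw [hk, pow_add, mul_comm] at h
  have h' := Nat.le_of_mul_le_mul_right h (pow_pos two_pos d)
  have hpow : ∀ j : ℕ, 3 ≤ j → 3 * j + 3 ≤ 2 * 2 ^ j := by
    intro j hj
    induction j, hj using Nat.le_induction with
    | base => norm_num
    | succ j hj ih => rw [pow_succ]; omega
  have := hpow k hk3
  omega

/-- The main case. -/
theorem false_of_minimal (hKl : GW66.KleinStmt.{u}) {G : Type u} [Group G] [Finite G]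
    (P : Sylow 2 G) (hel : ∀ x ∈ (P : Subgroup G), x * x = 1)
    (hcl : ∀ s t : G, orderOf s = 2 → orderOf t = 2 → IsConj s t)
    (h8 : Nat.card (P : Subgroup G) ≠ 8) {z : G} (hzP : z ∈ (P : Subgroup G)) (hz : orderOf z = 2)
    {S : Subgroup G} (hPS : (P : Subgroup G) ≤ S) (hzS : ∀ s ∈ S, s * z = z * s)
    (hns : ¬ Group.IsSolvable S)
    (hmin : ∀ L : Subgroup G, (P : Subgroup G) ≤ L → L ≤ S → L ≠ S → Group.IsSolvable L) :
    False := by
  classical
  haveI : Fact (Nat.Prime 2) := ⟨Nat.prime_two⟩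
  have hord : ∀ x ∈ (P : Subgroup G), x ≠ 1 → orderOf x = 2 := fun x hx hx1 =>
    orderOf_eq_prime (by rw [sq]; exact hel x hx) hx1
  set T : Sylow 2 S := P.subtype hPS with hT
  have hmemT : ∀ v : S, v ∈ (T : Subgroup S) ↔ (v : G) ∈ (P : Subgroup G) := fun _ => Iff.rfl
  have helT : ∀ v ∈ (T : Subgroup S), v * v = 1 := fun v hv => Subtype.ext (hel v hv)
  set Z : Subgroup S := (T : Subgroup S) ⊓ center S with hZdef
  have hZc : Z ≤ center S := inf_le_right
  haveI : Z.Normal :=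
    ⟨fun v hv g => by rw [mem_center_iff.1 (hZc hv) g, mul_inv_cancel_right]; exact hv⟩
  have hmin' : ∀ L : Subgroup S, (T : Subgroup S) ≤ L → L ≠ ⊤ → Group.IsSolvable L := by
    intro L hTL hL
    haveI := hmin (L.map S.subtype) (fun x hx => ⟨⟨x, hPS hx⟩, hTL hx, rfl⟩) (map_subtype_le L)
      (fun h => hL (map_injective S.subtype_injective
        (h.trans (by rw [← MonoidHom.range_eq_map, range_subtype]))))
    exact Group.isSolvable_of_isSolvable_injective
      (f := (L.equivMapOfInjective S.subtype S.subtype_injective).toMonoidHom)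
      (L.equivMapOfInjective S.subtype S.subtype_injective).injective
  set π₁ := QuotientGroup.mk' Z with hπ₁
  have hsurj₁ : Function.Surjective π₁ := QuotientGroup.mk'_surjective Z
  have hcomm : IsMulCommutative ((T.mapSurjective hsurj₁ : Sylow 2 (S ⧸ Z)) : Subgroup (S ⧸ Z)) := by
    rw [Sylow.coe_mapSurjective]
    refine ⟨⟨fun a b => Subtype.ext ?_⟩⟩
    obtain ⟨_, v, hv, rfl⟩ := a
    obtain ⟨_, w, hw, rfl⟩ := b
    show π₁ v * π₁ w = π₁ w * π₁ v
    rw [← map_mul, ← map_mul]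
    congr 1
    have hi : ∀ u ∈ (T : Subgroup S), u⁻¹ = u := fun u hu => inv_eq_of_mul_eq_one_right (helT u hu)
    rw [← hi _ (mul_mem hv hw), mul_inv_rev, hi _ hv, hi _ hw]
  rcases H40.AbSolv.s3188_of Bender27.benderSplit hKl (T.mapSurjective hsurj₁) hcomm
      (solvable_centralizer_quotient T helT hmin' Z inf_le_left hZc fun v hv hc => ⟨hv, hc⟩) with
    hsol | ⟨F, iF, iT, hq, N, hN, ⟨e⟩, -⟩
  · haveI := hsol
    haveI : Group.IsSolvable Z := Group.isSolvable_of_comm fun a b =>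
      Subtype.ext (mem_center_iff.1 (hZc b.2) a)
    exact hns (U3Sylow80.isSolvable_of_ext Z)
  obtain ⟨hFns, hF4, hFcl⟩ := psl_facts (F := F) hq
  haveI := hN
  set O := Cfsg.oddCore (S ⧸ Z) with hO
  let π : S →* (S ⧸ Z) ⧸ O := (QuotientGroup.mk' O).comp π₁
  have hsurj : Function.Surjective π := (QuotientGroup.mk'_surjective O).comp hsurj₁
  set T₁ := T.mapSurjective hsurj with hT₁
  have hmemT₁ : ∀ y : (S ⧸ Z) ⧸ O, y ∈ (T₁ : Subgroup ((S ⧸ Z) ⧸ O)) ↔ ∃ v ∈ (T : Subgroup S), π v = y := fun y => by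
    rw [hT₁, Sylow.coe_mapSurjective, mem_map]
  have hel₁ : ∀ y ∈ (T₁ : Subgroup ((S ⧸ Z) ⧸ O)), y * y = 1 := fun y hy => by
    obtain ⟨v, hv, rfl⟩ := (hmemT₁ y).1 hy
    rw [← map_mul, helT v hv, map_one]
  -- the image of a Sylow element vanishes only on `Z`
  have hinj : ∀ v ∈ (T : Subgroup S), π v = 1 → v ∈ Z := fun v hv h => by
    have h1 : π₁ v ∈ O := (QuotientGroup.eq_one_iff _).1 h
    have h2 : π₁ v * π₁ v = 1 := by rw [← map_mul, helT v hv, map_one]
    refine (QuotientGroup.eq_one_iff v).1 (show π₁ v = 1 from ?_)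
    by_contra hne
    have hodd : Odd (orderOf (π₁ v)) :=
      (BenderCons37.oddCore_card_odd (G := S ⧸ Z)).of_dvd_nat (Subgroup.orderOf_dvd_natCard _ h1)
    rw [orderOf_eq_prime (p := 2) (by rw [sq]; exact h2) hne] at hodd
    exact absurd hodd (by decide)
  -- minimality
  have hNT : N ⊔ (T₁ : Subgroup ((S ⧸ Z) ⧸ O)) = ⊤ := by
    by_contra hne
    have hle : (T : Subgroup S) ≤ (N ⊔ (T₁ : Subgroup ((S ⧸ Z) ⧸ O))).comap π := fun v hv =>
      mem_sup_right ((hmemT₁ _).2 ⟨v, hv, rfl⟩)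
    haveI := hmin' _ hle (fun h => hne (by
      rw [← map_comap_eq_self_of_surjective hsurj (N ⊔ (T₁ : Subgroup ((S ⧸ Z) ⧸ O))), h,
        map_top_of_surjective π hsurj]))
    haveI : Group.IsSolvable (((N ⊔ (T₁ : Subgroup ((S ⧸ Z) ⧸ O))).comap π).map π) :=
      Group.isSolvable_of_surjective (π.subgroupMap_surjective _)
    have hNle : N ≤ ((N ⊔ (T₁ : Subgroup ((S ⧸ Z) ⧸ O))).comap π).map π := by
      rw [map_comap_eq_self_of_surjective hsurj]; exact le_sup_left
    haveI : Group.IsSolvable N :=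
      Group.isSolvable_of_isSolvable_injective (inclusion_injective hNle)
    exact hFns (Group.isSolvable_of_isSolvable_injective (f := e.symm.toMonoidHom) e.symm.injective)
  set Q := N ⊓ (T₁ : Subgroup ((S ⧸ Z) ⧸ O)) with hQ
  have h4Q : 4 ∣ Nat.card Q := by
    have h1 : Nat.card N ∣ Nat.card Q * (T₁ : Subgroup ((S ⧸ Z) ⧸ O)).index := by
      have h := (Q.subgroupOf (T₁ : Subgroup ((S ⧸ Z) ⧸ O))).card_mul_index
      rw [Nat.card_congr (subgroupOfEquivOfLe
        (inf_le_right : Q ≤ (T₁ : Subgroup ((S ⧸ Z) ⧸ O)))).toEquiv] at h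
      change Nat.card Q * Q.relIndex _ = _ at h
      have hr : Q.relIndex (T₁ : Subgroup ((S ⧸ Z) ⧸ O)) = N.index := by
        rw [hQ, inf_relIndex_right, ← relIndex_sup_left (K := N), hNT, relIndex_top_right]
      rw [hr] at h
      have hG := (T₁ : Subgroup ((S ⧸ Z) ⧸ O)).card_mul_index
      rw [← h, ← N.card_mul_index, mul_right_comm] at hG
      exact dvd_of_eq (Nat.eq_of_mul_eq_mul_right (Nat.pos_of_ne_zero N.index_ne_zero_of_finite) hG).symm
    have h2 : (4 : ℕ).Coprime (T₁ : Subgroup ((S ⧸ Z) ⧸ O)).index := by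
      rw [show (4 : ℕ) = 2 ^ 2 from rfl]
      exact Nat.Coprime.pow_left 2 ((Nat.Prime.coprime_iff_not_dvd Nat.prime_two).2 T₁.not_dvd_index)
    exact h2.dvd_of_dvd_mul_right ((hF4.trans (Nat.card_congr e.toEquiv).symm.dvd).trans h1)
  -- commutators of Sylow elements
  have hcN : ∀ (s : S), ∀ v ∈ (T : Subgroup S), π (s * v * s⁻¹ * v⁻¹) ∈ N := by
    intro s v hv
    rw [← QuotientGroup.eq_one_iff]
    show QuotientGroup.mk' N (π (s * v * s⁻¹ * v⁻¹)) = 1
    have himg : ∀ x, ∃ y ∈ (T₁ : Subgroup ((S ⧸ Z) ⧸ O)), QuotientGroup.mk' N x = QuotientGroup.mk' N y := by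
      intro x
      have hx : x ∈ N ⊔ (T₁ : Subgroup ((S ⧸ Z) ⧸ O)) := hNT ▸ mem_top x
      rw [← SetLike.mem_coe, normal_mul] at hx
      obtain ⟨a, ha, y, hy, rfl⟩ := hx
      exact ⟨y, hy, by
        rw [map_mul, show QuotientGroup.mk' N a = 1 from (QuotientGroup.eq_one_iff a).2 ha, one_mul]⟩
    obtain ⟨y, hy, he⟩ := himg (π s)
    obtain ⟨v', hv'⟩ : ∃ v', v' = π v := ⟨_, rfl⟩
    have hv₁ : v' ∈ (T₁ : Subgroup ((S ⧸ Z) ⧸ O)) := hv' ▸ (hmemT₁ _).2 ⟨v, hv, rfl⟩
    have hi : ∀ u ∈ (T₁ : Subgroup ((S ⧸ Z) ⧸ O)), u⁻¹ = u := fun u hu => inv_eq_of_mul_eq_one_right (hel₁ u hu)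
    have hc : y * v' = v' * y := by rw [← hi _ (mul_mem hy hv₁), mul_inv_rev, hi _ hy, hi _ hv₁]
    rw [map_mul π, map_mul π, map_mul π, map_inv π, map_inv π, ← hv', map_mul, map_mul, map_mul,
      map_inv, map_inv, he, ← map_inv, ← map_inv, ← map_mul, ← map_mul, ← map_mul, hc]
    simp
  -- automisers
  obtain ⟨n, hn⟩ := IsPGroup.iff_card.1 P.isPGroup'
  set Nm := normalizer ((P : Subgroup G) : Set G) with hNm
  set φ := (P : Subgroup G).normalizerMonoidHom with hφ
  have hφap : ∀ (g : Nm) (v : (P : Subgroup G)), ((φ g v : (P : Subgroup G)) : G) = g * v * (g : G)⁻¹ :=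
    fun _ _ => rfl
  set z' : (P : Subgroup G) := ⟨z, hzP⟩ with hz'
  have hz1 : z' ≠ 1 := fun h => by
    rw [show z = 1 from congrArg Subtype.val h, orderOf_one] at hz; omega
  set A := (S.subgroupOf Nm).map φ with hA
  have hRodd : Odd (Nat.card φ.range) := by
    rw [← index_ker, normalizerMonoidHom_ker, ← Nat.not_even_iff_odd, even_iff_two_dvd]
    intro h
    have hle : (P : Subgroup G) ≤ centralizer ((P : Subgroup G) : Set G) := fun v hv =>
      mem_centralizer_iff.2 fun w hw => by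
        have hi : ∀ u ∈ (P : Subgroup G), u⁻¹ = u := fun u hu => inv_eq_of_mul_eq_one_right (hel u hu)
        rw [← hi _ (mul_mem hw hv), mul_inv_rev, hi _ hw, hi _ hv]
    exact P.not_dvd_index (h.trans ((dvd_of_eq rfl).trans ((relIndex_dvd_of_le_left _ hle).trans
      (relIndex_dvd_index_of_le le_normalizer))))
  have htr : ∀ v w : (P : Subgroup G), v ≠ 1 → w ≠ 1 → ∃ f ∈ φ.range, f v = w := by
    intro v w hv hw
    obtain ⟨g, hg⟩ := isConj_iff.1 (hcl v w (hord v v.2 fun h => hv (Subtype.ext h))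
      (hord w w.2 fun h => hw (Subtype.ext h)))
    have hi : ∀ u ∈ (P : Subgroup G), u⁻¹ = u := fun u hu => inv_eq_of_mul_eq_one_right (hel u hu)
    have hc : ∀ a ∈ (P : Subgroup G), ∀ b ∈ (P : Subgroup G), a * b = b * a := fun a ha b hb => by
      rw [← hi _ (mul_mem ha hb), mul_inv_rev, hi _ ha, hi _ hb]
    obtain ⟨k, hk, hka⟩ := ProdFus42.burnside P (A := {(v : G)}) (g := g)
      (by rintro _ rfl y hy; exact hc _ v.2 y hy)
      (by rintro _ rfl y hy; rw [hg]; exact hc _ w.2 y hy)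
    exact ⟨φ ⟨k, hk⟩, ⟨_, rfl⟩, Subtype.ext (by rw [hφap]; exact (hka _ rfl).trans hg)⟩
  obtain ⟨hAn, hfix⟩ := semilinear_fix (fun v : (P : Subgroup G) => Subtype.ext (hel v v.2)) φ.range
    hRodd htr hn hz1 (A := A) (by rintro _ ⟨g, -, rfl⟩; exact ⟨g, rfl⟩) (by
      rintro _ ⟨g, hg, rfl⟩
      refine Subtype.ext ?_
      rw [hφap]
      show (g : G) * z * (g : G)⁻¹ = z
      rw [hzS g hg, mul_inv_cancel_right])
  -- the orbit
  let toW : ↥(P : Subgroup G) → (S ⧸ Z) ⧸ O := fun v => π ⟨v, hPS v.2⟩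
  have hQA : Nat.card Q ≤ Nat.card A + 1 := by
    haveI : Nontrivial Q := Finite.one_lt_card_iff_nontrivial.1
      (lt_of_lt_of_le (by norm_num) (Nat.le_of_dvd Nat.card_pos h4Q))
    obtain ⟨x₀, hx₀⟩ := exists_ne (1 : Q)
    obtain ⟨v₀, hv₀, hπv₀⟩ := (hmemT₁ _).1 x₀.2.2
    set v₁ : (P : Subgroup G) := ⟨(v₀ : G), hv₀⟩
    have hsur : ∀ y : Q, y ≠ 1 → ∃ f : A, toW ((f : MulAut (P : Subgroup G)) v₁) = (y : (S ⧸ Z) ⧸ O) := by
      intro y hy
      have ho : ∀ q : Q, q ≠ 1 → orderOf (⟨q, q.2.1⟩ : N) = 2 := fun q hq => by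
        rw [Subgroup.orderOf_mk]
        exact orderOf_eq_prime (by rw [sq]; exact hel₁ _ q.2.2) fun h => hq (Subtype.ext h)
      obtain ⟨c, hc⟩ := isConj_iff.1 (hFcl (e ⟨x₀, x₀.2.1⟩) (e ⟨y, y.2.1⟩)
        (by rw [MulEquiv.orderOf_eq]; exact ho x₀ hx₀) (by rw [MulEquiv.orderOf_eq]; exact ho y hy))
      set g : (S ⧸ Z) ⧸ O := ((e.symm c : N) : (S ⧸ Z) ⧸ O) with hg
      have hg' : g * x₀ * g⁻¹ = y := by
        have := congrArg (fun r => ((e.symm r : N) : (S ⧸ Z) ⧸ O)) hc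
        simpa [hg] using this
      have hi : ∀ u ∈ (T₁ : Subgroup ((S ⧸ Z) ⧸ O)), u⁻¹ = u := fun u hu =>
        inv_eq_of_mul_eq_one_right (hel₁ u hu)
      have hcT : ∀ a ∈ (T₁ : Subgroup ((S ⧸ Z) ⧸ O)), ∀ b ∈ (T₁ : Subgroup ((S ⧸ Z) ⧸ O)), a * b = b * a := fun a ha b hb => by
        rw [← hi _ (mul_mem ha hb), mul_inv_rev, hi _ ha, hi _ hb]
      obtain ⟨k, hk, hka⟩ := ProdFus42.burnside T₁ (A := {(x₀ : (S ⧸ Z) ⧸ O)}) (g := g)
        (by rintro _ rfl w hw; exact hcT _ x₀.2.2 w hw)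
        (by rintro _ rfl w hw; rw [hg']; exact hcT _ y.2.2 w hw)
      obtain ⟨u, hu, rfl⟩ := exists_lift_normalizer T π hsurj
        (by rwa [hT₁, Sylow.coe_mapSurjective] at hk)
      have huP : (u : G) ∈ Nm := mem_normalizer_iff.2 fun w => by
        constructor
        · intro hw
          exact (mem_normalizer_iff.1 hu ⟨w, hPS hw⟩).1 hw
        · intro hw
          have hwS : w ∈ S := by
            have := mul_mem (mul_mem (inv_mem u.2) (hPS hw)) u.2
            simpa [mul_assoc] using this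
          exact (mem_normalizer_iff.1 hu ⟨w, hwS⟩).2 hw
      refine ⟨⟨φ ⟨u, huP⟩, ⟨u, huP⟩, u.2, rfl⟩, ?_⟩
      have he : (⟨((φ ⟨u, huP⟩ v₁ : (P : Subgroup G)) : G), hPS (φ ⟨u, huP⟩ v₁).2⟩ : S) =
          u * v₀ * u⁻¹ := Subtype.ext rfl
      show π _ = _
      rw [he, map_mul, map_mul, map_inv, hπv₀, hka _ rfl, hg']
    choose f hf using hsur
    let F' : {y : Q // y ≠ 1} → A := fun y => f y.1 y.2
    have hF' : Function.Injective F' := fun y y' h => Subtype.ext (Subtype.ext (by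
      rw [← hf y.1 y.2, ← hf y'.1 y'.2]; exact congrArg (fun a : A => toW ((a : MulAut (P : Subgroup G)) v₁)) h))
    have h := Nat.card_le_card_of_injective F' hF'
    haveI := Fintype.ofFinite Q
    rw [Nat.card_eq_fintype_card, Fintype.card_subtype_compl, Fintype.card_subtype_eq,
      ← Nat.card_eq_fintype_card] at h
    omega
  have hQ4 := Nat.le_of_dvd Nat.card_pos h4Q
  obtain ⟨⟨f, hfA⟩, hf1'⟩ := ne_bot_iff_exists_ne_one.1 (show A ≠ ⊥ from fun h => by
    rw [h, card_bot] at hQA; omega)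
  have hf1 : f ≠ 1 := fun h => hf1' (Subtype.ext h)
  obtain ⟨m, d, hm, hnm, hd⟩ := hfix f hfA hf1
  obtain ⟨s, hs, rfl⟩ := hfA
  -- the commutator map
  have hψmem : ∀ v : (P : Subgroup G), toW (φ s v * v⁻¹) ∈ Q := fun v => by
    refine ⟨?_, (hmemT₁ _).2 ⟨_, (φ s v * v⁻¹).2, rfl⟩⟩
    exact hcN ⟨s, hs⟩ ⟨v, hPS v.2⟩ v.2
  have hcP : ∀ a b : (P : Subgroup G), a * b = b * a := fun a b => by
    have hi : ∀ u : (P : Subgroup G), u⁻¹ = u := fun u =>
      inv_eq_of_mul_eq_one_right (Subtype.ext (hel u u.2))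
    rw [← hi (a * b), mul_inv_rev, hi, hi]
  let incl : ↥(P : Subgroup G) →* (S ⧸ Z) ⧸ O := π.comp (inclusion hPS)
  let ψ : (P : Subgroup G) →* Q := MonoidHom.mk' (fun v => ⟨toW (φ s v * v⁻¹), hψmem v⟩)
    fun a b => Subtype.ext (by
      show incl (φ s (a * b) * (a * b)⁻¹) = incl (φ s a * a⁻¹) * incl (φ s b * b⁻¹)
      rw [← map_mul incl, map_mul (φ s), mul_inv_rev, hcP b⁻¹ a⁻¹]
      congr 1
      rw [mul_assoc, mul_assoc, ← mul_assoc (φ s b), hcP (φ s b) a⁻¹, mul_assoc])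
  have hker : Nat.card ψ.ker ≤ 2 ^ d := by
    rw [← hd]
    refine Nat.card_le_card_of_injective (fun v => ⟨v.1, ?_⟩) fun a b h =>
      Subtype.ext (congrArg (fun r : {v : (P : Subgroup G) // φ s v = v} => r.1) h)
    have h1 : π ⟨((φ s v.1 * (v.1)⁻¹ : (P : Subgroup G)) : G),
        hPS (φ s v.1 * (v.1)⁻¹).2⟩ = 1 := congrArg Subtype.val (MonoidHom.mem_ker.1 v.2)
    obtain ⟨-, hwc⟩ := hinj _ (φ s v.1 * (v.1)⁻¹).2 h1
    set w := φ s v.1 * (v.1)⁻¹ with hw
    have hsw : φ s w = w := Subtype.ext (by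
      rw [hφap]
      have := congrArg Subtype.val (mem_center_iff.1 hwc ⟨s, hs⟩)
      show (s : G) * w * (s : G)⁻¹ = w
      rw [show (s : G) * w = w * s from this, mul_inv_cancel_right])
    have hv : φ s v.1 = w * v.1 := by rw [hw, inv_mul_cancel_right]
    have hit : ∀ i : ℕ, (φ s ^ i) v.1 = w ^ i * v.1 := fun i => by
      induction i with
      | zero => simp
      | succ i ih =>
        rw [pow_succ', MulAut.mul_apply, ih, map_mul, map_pow, hsw, hv, ← mul_assoc, ← pow_succ]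
    have ho : Odd (orderOf (φ s)) :=
      hRodd.of_dvd_nat (Subgroup.orderOf_dvd_natCard _ ⟨s, rfl⟩)
    have h2 := hit (orderOf (φ s))
    rw [pow_orderOf_eq_one, MulAut.one_apply, eq_comm, mul_eq_right] at h2
    obtain ⟨j, hj⟩ := ho
    have hw2 : w ^ 2 = 1 := by rw [sq]; exact Subtype.ext (hel w w.2)
    rw [hj, pow_succ, pow_mul, hw2, one_pow, one_mul] at h2
    rwa [h2, one_mul] at hv
  have hcard := ψ.ker.card_mul_index
  rw [index_ker, hn] at hcard
  have hbound : 2 ^ n ≤ (n + 1) * 2 ^ d := by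
    rw [← hcard, mul_comm (n + 1)]
    refine Nat.mul_le_mul hker ((Nat.le_of_dvd Nat.card_pos (card_subgroup_dvd_card ψ.range)).trans ?_)
    omega
  exact false_of_bounds hm hnm (by omega) (fun h => h8 (by rw [hn, h]; norm_num)) hbound

end Structure

/-- One class of involutions, elementary abelian Sylow 2-subgroup not of order eight: solvable
centralisers of involutions. -/
theorem solvCent (hKl : GW66.KleinStmt.{u}) : SolvCentStmt.{u} := by
  intro G _ _ P hel hcl h8 z hz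
  haveI : Fact (Nat.Prime 2) := ⟨Nat.prime_two⟩
  obtain ⟨Q, hQ⟩ := (IsPGroup.of_card (n := 1) (by rw [Nat.card_zpowers, hz, pow_one]) :
    IsPGroup 2 ↥(zpowers z)).exists_le_sylow
  obtain ⟨g, rfl⟩ := MulAction.exists_smul_eq G P Q
  have hel' : ∀ x ∈ ((g • P : Sylow 2 G) : Subgroup G), x * x = 1 := by
    rw [Sylow.coe_subgroup_smul]
    rintro _ ⟨x, hx, rfl⟩
    show MulAut.conj g x * MulAut.conj g x = 1
    rw [← map_mul, hel x hx, map_one]
  have h8' : Nat.card ((g • P : Sylow 2 G) : Subgroup G) ≠ 8 := by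
    rwa [Sylow.card_eq_multiplicity, ← P.card_eq_multiplicity]
  by_contra hns
  have hPC : ((g • P : Sylow 2 G) : Subgroup G) ≤ centralizer ({z} : Set G) := fun x hx => by
    have hi : ∀ u ∈ ((g • P : Sylow 2 G) : Subgroup G), u⁻¹ = u := fun u hu =>
      inv_eq_of_mul_eq_one_right (hel' u hu)
    rw [mem_centralizer_singleton_iff, ← hi _ (mul_mem hx (hQ (mem_zpowers z))), mul_inv_rev,
      hi _ hx, hi _ (hQ (mem_zpowers z))]
  obtain ⟨S, ⟨hPS, hSC, hSns⟩, hmin⟩ :=
    (Set.toFinite {L : Subgroup G | ((g • P : Sylow 2 G) : Subgroup G) ≤ L ∧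
      L ≤ centralizer ({z} : Set G) ∧ ¬ Group.IsSolvable L}).exists_minimal ⟨_, hPC, le_rfl, hns⟩
  refine Structure.false_of_minimal hKl (g • P) hel' hcl h8' (hQ (mem_zpowers z)) hz hPS
    (fun s hs => mem_centralizer_singleton_iff.1 (hSC hs)) hSns fun L hPL hLS hne => ?_
  by_contra hL
  exact hne (le_antisymm hLS (hmin ⟨hPL, hLS.trans hSC, hL⟩ hLS))

end Cfsg.Agent.CD88
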