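import Cfsg.Agent.CD88.Solvable
import Cfsg.Agent.CD88.Reverse
import Cfsg.Agent.CD88.Reduce
import Cfsg.Agent.CD88.Structure
import Cfsg.Agent.CD88.Finish
import Cfsg.Agent.GW66.Klein

/-!
# S4514: assembly
-/

set_option autoImplicit false
set_option maxHeartbeats 400000

namespace Cfsg.Agent.CD88

open Subgroup Finset
open scoped ComplexConjugate

universe u

variable {G : Type u} [Group G] [Finite G] {M : Ideal Cfsg.AlgInt}

/-- Centralisers of involutions of `PSL(2, 2ⁿ)` are 2-groups. -/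
def CentStmt : Prop :=
  ∀ (G : Type u) [Group G] [Finite G] (F : Type) [Field F] [Fintype F] (n : ℕ), 2 ≤ n →
    Fintype.card F = 2 ^ n → (G ≃* Matrix.ProjectiveSpecialLinearGroup (Fin 2) F) →
    ∀ z : G, orderOf z = 2 → ∀ v : G, Commute z v → ¬ 2 ∣ orderOf v → v = 1

theorem const_conj (c : G) {g : G} {k : ℂ} (hk : Const M g k) : Const M (c * g * c⁻¹) k := by
  haveI := Fintype.ofFinite G
  intro χ hχ h1
  rw [BlocksCore.irr_class]
  exact hk χ hχ h1

/-- A group with `O(G) = 1` and a Sylow 2-subgroup of order 2 has order 2. -/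
theorem card_two_of_sylow_two (hO : Cfsg.oddCore G = ⊥) (P : Sylow 2 G)
    (hP : Nat.card (P : Subgroup G) = 2) : Nat.card G = 2 := by
  haveI : IsCyclic (P : Subgroup G) := isCyclic_of_prime_card hP
  have heven : 2 ∣ Nat.card G := hP ▸ Subgroup.card_subgroup_dvd_card (P : Subgroup G)
  have hc := IsCyclic.isComplement' ((Nat.minFac_eq_two_iff _).mpr heven)
    (inferInstance : IsCyclic (P : Subgroup G))
  have h1 := hc.card_mul
  set N := (MonoidHom.transferSylow P _).ker
  have h2 : Nat.card N = (P : Subgroup G).index := by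
    refine Nat.eq_of_mul_eq_mul_right (Nat.card_pos (α := (P : Subgroup G))) ?_
    rw [h1, Subgroup.index_mul_card]
  have h3 : Nat.Coprime (Nat.card N) 2 := by
    rw [h2, Nat.coprime_comm, Nat.Prime.coprime_iff_not_dvd Nat.prime_two]
    exact P.not_dvd_index
  have h4 : N = ⊥ := le_bot_iff.mp (hO ▸ Thompson.le_pPrimeCore inferInstance h3)
  rw [← h1, h4, Subgroup.card_bot, one_mul, hP]

/-- The forward implication when `O(G) = 1`. -/
theorem forward (hM : Cfsg.IsPModular 2 M) (hKl : GW66.KleinStmt.{u})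
    (hdeg : DegreeStmt.{u}) (h8 : OrderEightStmt.{u}) (hcent : CentStmt.{u})
    (hfaith : ∀ g : G, (∀ χ ∈ Cfsg.principalBlock M G, (χ : G → ℂ) g = (χ : G → ℂ) 1) → g = 1)
    (hO : Cfsg.oddCore G = ⊥) {g : G} {k₀ : ℂ} (hg : g ≠ 1) (hk₀ : Const M g k₀) :
    Nat.card G = 2 ∨
      ∃ (F : Type) (_ : Field F) (_ : Fintype F) (n : ℕ), 2 ≤ n ∧ Fintype.card F = 2 ^ n ∧
        Nonempty (G ≃* Matrix.ProjectiveSpecialLinearGroup (Fin 2) F) ∧ g ^ 2 = 1 := by
  classical
  haveI := Fintype.ofFinite G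
  obtain ⟨P⟩ : Nonempty (Sylow 2 G) := inferInstance
  obtain ⟨t₀, ht₀⟩ : ∃ t : G, orderOf t = 2 := by
    by_contra hne
    have hodd : ¬ 2 ∣ Nat.card G := fun h => hne (exists_prime_orderOf_dvd_card' 2 h)
    have h : (⊤ : Subgroup G) ≤ ⊥ := hO ▸ Thompson.le_pPrimeCore inferInstance
      (by rw [Subgroup.card_top, Nat.coprime_comm, Nat.Prime.coprime_iff_not_dvd Nat.prime_two]
          exact hodd)
    exact hg (Subgroup.mem_bot.mp (h (Subgroup.mem_top g)))
  obtain ⟨hexp, hone, z, v, hz, hv, hgzv, k, hkpos, hkk⟩ := shape hM hfaith ht₀ hg hk₀ P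
  subst hgzv hkk
  have h2 : 2 ≤ Nat.card (P : Subgroup G) := by
    have hdvd : 2 ∣ Nat.card G := ht₀ ▸ orderOf_dvd_natCard t₀
    have h1 := P.pow_dvd_card_of_pow_dvd_card (n := 1) (by rwa [pow_one])
    rw [pow_one] at h1
    exact Nat.le_of_dvd Nat.card_pos h1
  obtain ⟨a, ha⟩ := IsPGroup.iff_card.mp P.2
  by_cases hq2 : Nat.card (P : Subgroup G) = 2
  · exact Or.inl (card_two_of_sylow_two hO P hq2)
  have hq4 : 4 ≤ Nat.card (P : Subgroup G) := by
    rcases a with _ | _ | a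
    · rw [ha] at h2; norm_num at h2
    · exact absurd (by rw [ha]; norm_num) hq2
    · rw [ha, pow_succ, pow_succ]
      have := Nat.one_le_two_pow (n := a)
      omega
  have hsolv : Group.IsSolvable ↥(centralizer ({z} : Set G)) := by
    by_cases h8' : Nat.card (P : Subgroup G) = 8
    · by_contra hns
      refine h8 G M hM P hexp hone h8' z hz hns v hv k hkpos hk₀ fun hk3 χ hχ h1 => ?_
      have := (hdeg G M hM P hexp hone h2 _ k hk3 hk₀).1 χ hχ h1
      rw [h8'] at this
      norm_num at this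
      exact this
    · exact solvCent hKl G P hexp hone h8' z hz
  obtain ⟨hkq, -, hval, hsum, hsqs⟩ := solvableCase hM P hexp hz hsolv hv hkpos hk₀
  have hk3 : 3 ≤ k := by omega
  obtain ⟨hdge, hlin⟩ := hdeg G M hM P hexp hone h2 _ k hk3 hk₀
  have hcentral : ∀ t : G, orderOf t = 2 → ∃ K : Subgroup ↥(centralizer ({t} : Set G)),
      K.Normal ∧ Odd (Nat.card K) ∧ K.index = Nat.card (P : Subgroup G) := by
    intro t ht
    obtain ⟨c, rfl⟩ := isConj_iff.mp (hone z t hz ht)
    have hcv : Commute (c * z * c⁻¹) (c * (v : G) * c⁻¹) :=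
      (show Commute z (v : G) from (mem_centralizer_singleton_iff.mp v.2).symm).map
        (MulAut.conj c).toMonoidHom
    have hs : Group.IsSolvable ↥(centralizer ({c * z * c⁻¹} : Set G)) := by
      by_cases h8' : Nat.card (P : Subgroup G) = 8
      · by_contra hns
        refine h8 G M hM P hexp hone h8' _ ht hns ⟨c * (v : G) * c⁻¹,
          mem_centralizer_singleton_iff.mpr hcv.symm.eq⟩ ?_ k hkpos ?_ fun hk3 χ hχ h1 => ?_
        · rw [Subgroup.orderOf_mk]
          exact fun h => hv (by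
            rw [← Subgroup.orderOf_coe]
            exact h.trans (dvd_of_eq (MulEquiv.orderOf_eq (MulAut.conj c) (v : G))))
        · rw [show c * z * c⁻¹ * (c * (v : G) * c⁻¹) = c * (z * (v : G)) * c⁻¹ by group]
          exact const_conj c hk₀
        · have := hdge χ hχ h1
          rw [h8'] at this
          norm_num at this
          exact this
      · exact solvCent hKl G P hexp hone h8' _ ht
    obtain ⟨-, ⟨K, hKn, hKo, hKi, -⟩, -⟩ := solvableCase hM P hexp ht hs
      (v := ⟨c * (v : G) * c⁻¹, mem_centralizer_singleton_iff.mpr hcv.symm.eq⟩)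
      (by rw [Subgroup.orderOf_mk]
          exact fun h => hv (by
            rw [← Subgroup.orderOf_coe]
            exact h.trans (dvd_of_eq (MulEquiv.orderOf_eq (MulAut.conj c) (v : G))))) hkpos
      (by rw [show c * z * c⁻¹ * (c * (v : G) * c⁻¹) = c * (z * (v : G)) * c⁻¹ by group]
          exact const_conj c hk₀)
    exact ⟨K, hKn, hKo, hKi⟩
  have hthree : Nat.card (P : Subgroup G) = 4 → ∃ χ : Cfsg.IrrCharacter G,
      (χ : G → ℂ) 1 = 3 ∧ ∀ t : G, orderOf t = 2 → (χ : G → ℂ) t = -1 := by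
    intro h4
    have hsq : z ^ 2 = 1 := by rw [← hz, pow_orderOf_eq_one]
    choose e he using fun χ : Cfsg.IrrCharacter G => BlocksCore.KleinBlock.exists_int_of_sq χ hsq
    have hsumZ : ∑ χ ∈ npr M G, e χ = -1 := by
      have : ((∑ χ ∈ npr M G, e χ : ℤ) : ℂ) = ((-1 : ℤ) : ℂ) := by
        push_cast
        rw [← hsum]
        exact Finset.sum_congr rfl fun χ _ => (he χ).symm
      exact_mod_cast this
    obtain ⟨χ, hχ, hneg⟩ : ∃ χ ∈ npr M G, e χ < 0 := by
      by_contra hne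
      push Not at hne
      have := Finset.sum_nonneg hne
      omega
    obtain ⟨hχB, hχ1⟩ := mem_npr.mp hχ
    have h1 := hk₀ χ hχB hχ1
    rw [hval χ hχB, he χ, hkq, h4, BlocksCore.irr_one_eq] at h1
    have h3 := hdge χ hχB hχ1
    rw [h4, BlocksCore.irr_one_eq, Complex.natCast_re] at h3
    norm_num at h3
    set d := Cfsg.charDegree (χ : G → ℂ)
    have h5 : (d : ℤ) - e χ = 4 := by exact_mod_cast h1
    have hd : d = 3 := by
      have : (3 : ℕ) ≤ d := by exact_mod_cast h3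
      omega
    have hez : e χ = -1 := by omega
    refine ⟨χ, ?_, fun t ht => ?_⟩
    · rw [BlocksCore.irr_one_eq, show Cfsg.charDegree (χ : G → ℂ) = 3 from hd]; norm_num
    · obtain ⟨c, rfl⟩ := isConj_iff.mp (hone z t hz ht)
      rw [BlocksCore.irr_class, he χ, hez]
      norm_num
  obtain ⟨F, _, _, n, hn, hF, ⟨e⟩⟩ := finish hKl G P hexp hone hq4 hO hcentral hlin hthree
  refine Or.inr ⟨F, inferInstance, inferInstance, n, hn, hF, ⟨e⟩, ?_⟩
  rw [hcent G F n hn hF e z hz (v : G) (mem_centralizer_singleton_iff.mp v.2).symm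
    (by rwa [Subgroup.orderOf_coe]), mul_one, ← hz, pow_orderOf_eq_one]

/-- The value of the block at the nontrivial element of a group of order 2. -/
theorem const_of_card_two (hM : Cfsg.IsPModular 2 M) (h : Nat.card G = 2) {g : G} (hg : g ≠ 1) :
    Const M g 2 := by
  classical
  haveI := Fintype.ofFinite G
  intro χ _ hχ1
  have h0 := BC86.col_orth (1 : G) 1
  rw [if_pos (IsConj.refl 1), show centralizer ({1} : Set G) = ⊤ from top_unique fun y _ =>
    mem_centralizer_singleton_iff.mpr (by simp), Subgroup.card_top, h] at h0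
  simp only [BlocksCore.irr_one_eq, map_natCast] at h0
  have h1 : ∑ χ : Cfsg.IrrCharacter G,
      Cfsg.charDegree (χ : G → ℂ) * Cfsg.charDegree (χ : G → ℂ) = 2 := by exact_mod_cast h0
  have hne : χ ≠ BlocksDefect.oneIrr G := fun e => hχ1 (e ▸ BlocksDefect.coe_oneIrr)
  have hge : ∀ ψ : Cfsg.IrrCharacter G, 1 ≤ Cfsg.charDegree (ψ : G → ℂ) := fun ψ =>
    Nat.one_le_iff_ne_zero.mpr fun h0 => BlocksCore.irr_one_ne_zero ψ (by
      rw [BlocksCore.irr_one_eq, h0, Nat.cast_zero])
  have hpair : ({χ, BlocksDefect.oneIrr G} : Finset (Cfsg.IrrCharacter G)) = Finset.univ := by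
    refine Finset.eq_univ_of_forall fun ψ => ?_
    by_contra hψ
    have h3 := Finset.sum_le_sum_of_subset (f := fun χ : Cfsg.IrrCharacter G =>
      Cfsg.charDegree (χ : G → ℂ) * Cfsg.charDegree (χ : G → ℂ))
      (Finset.subset_univ (insert ψ ({χ, BlocksDefect.oneIrr G} : Finset _)))
    rw [h1, Finset.sum_insert hψ, Finset.sum_pair hne] at h3
    have := Nat.mul_le_mul (hge ψ) (hge ψ)
    have := Nat.mul_le_mul (hge χ) (hge χ)
    have := Nat.mul_le_mul (hge (BlocksDefect.oneIrr G)) (hge (BlocksDefect.oneIrr G))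
    omega
  rw [← hpair, Finset.sum_pair hne] at h1
  have hd : Cfsg.charDegree (χ : G → ℂ) = 1 := by
    have := Nat.mul_le_mul (hge (BlocksDefect.oneIrr G)) (hge (BlocksDefect.oneIrr G))
    rcases Nat.lt_or_ge (Cfsg.charDegree (χ : G → ℂ)) 2 with hlt | hgt
    · have := hge χ; omega
    · have := Nat.mul_le_mul hgt hgt; omega
  have hg0 := BC86.col_orth g 1
  rw [if_neg (fun hc => hg (isConj_one_left.mp hc)), ← hpair, Finset.sum_pair hne,
    oneIrr_apply, oneIrr_apply, map_one, mul_one, BlocksCore.irr_one_eq, hd, Nat.cast_one,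
    map_one, mul_one] at hg0
  rw [BlocksCore.irr_one_eq, hd, eq_neg_of_add_eq_zero_left hg0]
  norm_num

/-- **S4514**. -/
theorem main (hKl : GW66.KleinStmt.{u}) (hdeg : DegreeStmt.{u}) (h8 : OrderEightStmt.{u})
    (hcent : CentStmt.{u}) (hM : Cfsg.IsPModular 2 M) (g : G) :
    (∃ k : ℂ, Const M g k) ↔
      (g ∈ Cfsg.oddCore G ∨ (Nat.card (G ⧸ Cfsg.oddCore G) = 2 ∧ g ∉ Cfsg.oddCore G) ∨
        (∃ (F : Type) (_ : Field F) (_ : Fintype F) (n : ℕ), 2 ≤ n ∧ Fintype.card F = 2 ^ n ∧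
          Nonempty (G ⧸ Cfsg.oddCore G ≃* Matrix.ProjectiveSpecialLinearGroup (Fin 2) F) ∧
            g ∉ Cfsg.oddCore G ∧ g ^ 2 ∈ Cfsg.oddCore G)) := by
  obtain ⟨hred, hbot, -⟩ := reduce G M hM
  have hfaith := (reduce (G ⧸ Cfsg.oddCore G) M hM).2.2 hbot
  constructor
  · rintro ⟨k, hk⟩
    by_cases hmem : g ∈ Cfsg.oddCore G
    · exact Or.inl hmem
    right
    have hg1 : (g : G ⧸ Cfsg.oddCore G) ≠ 1 := fun h => hmem ((QuotientGroup.eq_one_iff g).mp h)
    rcases forward hM hKl hdeg h8 hcent hfaith hbot hg1 ((hred g k).mp hk) with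
      h2 | ⟨F, _, _, n, hn, hF, he, hsq⟩
    · exact Or.inl ⟨h2, hmem⟩
    · refine Or.inr ⟨F, inferInstance, inferInstance, n, hn, hF, he, hmem, ?_⟩
      rw [← QuotientGroup.eq_one_iff, QuotientGroup.mk_pow]
      exact hsq
  · rintro (hmem | ⟨h2, hmem⟩ | ⟨F, _, _, n, hn, hF, he, hmem, hsq⟩)
    · refine ⟨0, (hred g 0).mpr fun χ _ _ => ?_⟩
      rw [(QuotientGroup.eq_one_iff g).mpr hmem, sub_self]
    · exact ⟨2, (hred g 2).mpr (const_of_card_two hM h2 fun h =>
        hmem ((QuotientGroup.eq_one_iff g).mp h))⟩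
    · refine ⟨(2 ^ n : ℂ), (hred g _).mpr fun χ hχ h1 => ?_⟩
      refine reverse (G ⧸ Cfsg.oddCore G) M hM F n hn hF he (g : G ⧸ Cfsg.oddCore G)
        (fun h => hmem ((QuotientGroup.eq_one_iff g).mp h)) ?_ χ hχ h1
      rw [← QuotientGroup.mk_pow, QuotientGroup.eq_one_iff]
      exact hsq

end Cfsg.Agent.CD88
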