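import Cfsg.Agent.CD88.Interfaces
import Cfsg.Agent.ZStar.Klein
import Cfsg.Agent.CharDeep.FSys.Main
import Cfsg.Agent.Lib.BlocksDefect.PrincipalSection

/-!
# Splitting off a central involution, and the block of the factor with a four-group
-/

set_option autoImplicit false
set_option linter.all false

namespace Cfsg.Agent.CD88

open Subgroup Finset
open scoped ComplexConjugate

universe u

variable {H : Type u} [Group H] [Finite H]

/-- A central involution `z` outside a subgroup of index two. -/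
structure Split2 (z : H) (K : Subgroup H) : Prop where
  idx : K.index = 2
  cen : ∀ h : H, h * z = z * h
  notMem : z ∉ K
  sq : z * z = 1

variable {z : H} {K : Subgroup H}

theorem Split2.mul_mem_iff (h : Split2 z K) (x : H) : z * x ∈ K ↔ x ∉ K := by
  rw [Subgroup.mul_mem_iff_of_index_two h.idx]
  simp [h.notMem]

theorem Split2.sum_eq (h : Split2 z K) [Fintype H] [Fintype K] (g : H → ℂ) :
    ∑ x : H, g x = ∑ x : K, g x + ∑ x : K, g (z * x) := by
  classical
  rw [← Finset.sum_filter_add_sum_filter_not Finset.univ (fun x => x ∈ K) g]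
  congr 1
  · exact Finset.sum_subtype _ (by simp) g
  · refine Eq.trans ?_ (Finset.sum_subtype _ (fun x => ?_) (fun x => g (z * x)) :
      ∑ x ∈ Finset.univ.filter (fun x => x ∈ K), g (z * x) = _)
    · refine Finset.sum_nbij' (fun x => z * x) (fun x => z * x) ?_ ?_ ?_ ?_ ?_
      all_goals intro x hx
      all_goals simp [h.mul_mem_iff, ← mul_assoc, h.sq] at hx ⊢
      all_goals exact hx
    · simp

theorem Split2.card_eq (h : Split2 z K) : (Nat.card H : ℂ) = 2 * (Nat.card K : ℂ) := by
  rw [← K.card_mul_index, h.idx]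
  push_cast
  ring

/-- A central involution acts by a sign. -/
theorem Split2.exists_sign (h : Split2 z K) (ψ : Cfsg.IrrCharacter H) :
    ∃ ε : ℤ, (ε = 1 ∨ ε = -1) ∧ ∀ x : H, (ψ : H → ℂ) (z * x) = ε * (ψ : H → ℂ) x := by
  classical
  haveI := Fintype.ofFinite H
  obtain ⟨f, n, ρ, hρ, rfl⟩ := ψ
  let a : H → ℂ := fun x => if x = z then 1 else 0
  have ha : Cfsg.IsClassFunction H a := by
    intro x d
    have : (d * x * d⁻¹ = z) ↔ x = z := by
      constructor
      · intro e
        have e' : d * x * d⁻¹ = d * z * d⁻¹ := by rw [e, h.cen d, mul_inv_cancel_right]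
        exact mul_left_cancel (mul_right_cancel e')
      · rintro rfl
        rw [h.cen d, mul_inv_cancel_right]
    exact if_congr this rfl rfl
  have hs := BlocksCore.sum_smul_eq_omega_smul ρ ha
  simp only [a, ite_smul, one_smul, zero_smul, Finset.sum_ite_eq', Finset.mem_univ, if_true] at hs
  set c := BlocksCore.omega ρ.character a
  have hmul : ∀ x, ρ.character (z * x) = c * ρ.character x := fun x => by
    simp only [Representation.character, map_mul, hs, smul_mul_assoc, one_mul, map_smul,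
      smul_eq_mul]
  have hc : c * c = 1 * 1 := by
    have h1 := hmul (z * 1)
    rw [hmul 1, ← mul_assoc, h.sq, one_mul, ← mul_assoc] at h1
    rw [one_mul]
    refine mul_right_cancel₀ (b := ρ.character 1) ?_ (by rw [one_mul]; exact h1.symm)
    exact CharCore.irr_apply_one_ne_zero (⟨ρ.character, n, ρ, hρ, rfl⟩ : Cfsg.IrrCharacter H)
  rcases mul_self_eq_mul_self_iff.mp hc with h1 | h1
  · exact ⟨1, Or.inl rfl, fun x => by show ρ.character (z * x) = _; rw [hmul, h1]; simp⟩
  · exact ⟨-1, Or.inr rfl, fun x => by show ρ.character (z * x) = _; rw [hmul, h1]; simp⟩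

theorem Split2.isIrr_res (h : Split2 z K) (ψ : Cfsg.IrrCharacter H) :
    Cfsg.IsIrrCharacter K (fun x : K => (ψ : H → ℂ) x) := by
  classical
  haveI := Fintype.ofFinite H
  haveI := Fintype.ofFinite K
  obtain ⟨ε, hε, hmul⟩ := h.exists_sign ψ
  refine CharCore.isIrrCharacter_iff.mpr
    ⟨CharCore.isCharacter_restrict (CharCore.IsIrrCharacter.isCharacter ψ.2) K, ?_⟩
  have h1 := CharCore.classInner_irr_self ψ
  have he : ((ε : ℂ)) * conj (ε : ℂ) = 1 := by rcases hε with rfl | rfl <;> simp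
  rw [CharCore.classInner_def, h.sum_eq, h.card_eq] at h1
  have h2 : ∑ x : K, (ψ : H → ℂ) (z * x) * conj ((ψ : H → ℂ) (z * x)) =
      ∑ x : K, (ψ : H → ℂ) x * conj ((ψ : H → ℂ) x) :=
    Finset.sum_congr rfl fun x _ => by rw [hmul, map_mul, mul_mul_mul_comm, he, one_mul]
  rw [h2] at h1
  rw [CharCore.classInner_def, ← h1, mul_inv]
  ring

/-- The restriction of an irreducible character to the factor. -/
noncomputable def Split2.res (h : Split2 z K) (ψ : Cfsg.IrrCharacter H) : Cfsg.IrrCharacter K :=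
  ⟨_, h.isIrr_res ψ⟩

theorem Split2.res_apply (h : Split2 z K) (ψ : Cfsg.IrrCharacter H) (x : K) :
    (h.res ψ : K → ℂ) x = (ψ : H → ℂ) x := rfl

theorem Split2.index_centralizer (h : Split2 z K) (x : K) :
    (centralizer ({x} : Set K)).index = (centralizer ({(x : H)} : Set H)).index := by
  set C := centralizer ({(x : H)} : Set H)
  have he : centralizer ({x} : Set K) = C.subgroupOf K := by
    ext y
    simp [C, Subgroup.mem_subgroupOf, Subgroup.mem_centralizer_singleton_iff, Subtype.ext_iff]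
  haveI := Subgroup.normal_of_index_eq_two h.idx
  have h2 : K.relIndex C = 2 := by
    have hd : K.relIndex C ∣ 2 := h.idx ▸ Subgroup.relIndex_dvd_index_of_normal K C
    refine ((Nat.dvd_prime Nat.prime_two).mp hd).resolve_left fun h1 => h.notMem ?_
    exact Subgroup.relIndex_eq_one.mp h1
      (Subgroup.mem_centralizer_singleton_iff.mpr (h.cen x).symm)
  have ha := Subgroup.relIndex_mul_index (inf_le_left : C ⊓ K ≤ C)
  have hb := Subgroup.relIndex_mul_index (inf_le_right : C ⊓ K ≤ K)
  rw [Subgroup.inf_relIndex_left, h2] at ha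
  rw [Subgroup.inf_relIndex_right, h.idx] at hb
  rw [he, ← Subgroup.relIndex]
  omega

theorem Split2.centralizer_mul (h : Split2 z K) (x : H) :
    centralizer ({z * x} : Set H) = centralizer ({x} : Set H) := by
  ext y
  rw [Subgroup.mem_centralizer_singleton_iff, Subgroup.mem_centralizer_singleton_iff,
    ← mul_assoc, h.cen y, mul_assoc, mul_assoc z x y]
  exact mul_left_cancel_iff

/-- Membership in the principal block is seen on the factor. -/
theorem Split2.mem_principal_iff (h : Split2 z K) {M : Ideal Cfsg.AlgInt}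
    (hM : Cfsg.IsPModular 2 M) (ψ : Cfsg.IrrCharacter H) :
    ψ ∈ Cfsg.principalBlock M H ↔ h.res ψ ∈ Cfsg.principalBlock M K := by
  classical
  haveI : Fact (Nat.Prime 2) := ⟨Nat.prime_two⟩
  haveI := BlocksCore.isPrime hM
  haveI := Fintype.ofFinite H
  obtain ⟨ε, hε, hmul⟩ := h.exists_sign ψ
  have hK : ∀ x : K, Cfsg.centralChar (fun _ : H => (1 : ℂ)) x -
        Cfsg.centralChar (ψ : H → ℂ) x =
      Cfsg.centralChar (fun _ : K => (1 : ℂ)) x - Cfsg.centralChar (h.res ψ : K → ℂ) x := by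
    intro x
    simp only [Cfsg.centralChar, h.index_centralizer, h.res_apply, Subgroup.coe_one]
  constructor
  · exact fun hψ x => hK x ▸ hψ (x : H)
  · intro hψ g
    by_cases hg : g ∈ K
    · have := hψ ⟨g, hg⟩
      rwa [← hK] at this
    · obtain ⟨x, hx⟩ : ∃ x : K, z * (x : H) = g :=
        ⟨⟨z * g, (h.mul_mem_iff g).mpr hg⟩, by simp [← mul_assoc, h.sq]⟩
      have h1 := hψ x
      rw [← hK] at h1
      have h2 : Cfsg.centralChar (fun _ : H => (1 : ℂ)) g - Cfsg.centralChar (ψ : H → ℂ) g =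
          (Cfsg.centralChar (fun _ : H => (1 : ℂ)) x - Cfsg.centralChar (ψ : H → ℂ) x) +
            ((1 - ε : ℤ) : ℂ) * Cfsg.centralChar (ψ : H → ℂ) x := by
        rw [← hx]
        simp only [Cfsg.centralChar, h.centralizer_mul, hmul]
        push_cast
        ring
      rw [h2]
      refine BlocksCore.memLocalIdeal_add h1 (BlocksCore.memLocalIdeal_mul_right ?_
        (BlocksCore.centralChar_memLocalRing ψ _))
      rw [BlocksCore.memLocalIdeal_intCast_iff hM]
      rcases hε with rfl | rfl <;> norm_num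

/-- A function on the factor, extended by zero. -/
noncomputable def ext0 (K : Subgroup H) (F : K → ℂ) (x : H) : ℂ :=
  open Classical in if hx : x ∈ K then F ⟨x, hx⟩ else 0

theorem ext0_mem (F : K → ℂ) (x : K) : ext0 K F x = F x := by
  rw [ext0, dif_pos x.2]

theorem ext0_notMem (F : K → ℂ) {x : H} (hx : x ∉ K) : ext0 K F x = 0 := by
  rw [ext0, dif_neg hx]

theorem Split2.classInner_ext0 (h : Split2 z K) [Fintype H] [Fintype K] (g : H → ℂ)
    (F : K → ℂ) :
    Cfsg.classInner g (ext0 K F) = 2⁻¹ * Cfsg.classInner (fun x : K => g x) F := by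
  rw [CharCore.classInner_def, CharCore.classInner_def, h.sum_eq, h.card_eq]
  have h0 : ∑ x : K, g (z * x) * conj (ext0 K F (z * x)) = 0 :=
    Finset.sum_eq_zero fun x _ => by
      rw [ext0_notMem F fun hc => (h.mul_mem_iff (x : H)).mp hc x.2, map_zero, mul_zero]
  rw [h0, add_zero, mul_inv]
  simp only [ext0_mem]
  ring

theorem Split2.isClassFunction_ext0 (h : Split2 z K) {F : K → ℂ}
    (hF : Cfsg.IsClassFunction K F) : Cfsg.IsClassFunction H (ext0 K F) := by
  haveI hn := Subgroup.normal_of_index_eq_two h.idx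
  intro x d
  by_cases hx : x ∈ K
  · have hdx : d * x * d⁻¹ ∈ K := hn.conj_mem x hx d
    rw [show x = ((⟨x, hx⟩ : K) : H) from rfl, ext0_mem]
    show ext0 K F ((⟨d * x * d⁻¹, hdx⟩ : K) : H) = _
    rw [ext0_mem]
    by_cases hd : d ∈ K
    · exact hF ⟨x, hx⟩ ⟨d, hd⟩
    · have hzd : z * d ∈ K := (h.mul_mem_iff d).mpr hd
      rw [← hF ⟨x, hx⟩ ⟨z * d, hzd⟩]
      refine congrArg F (Subtype.ext ?_)
      show d * x * d⁻¹ = z * d * x * (z * d)⁻¹
      calc d * x * d⁻¹ = (d * x * d⁻¹) * z * z⁻¹ := by group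
        _ = z * (d * x * d⁻¹) * z⁻¹ := by rw [h.cen]
        _ = _ := by group
  · rw [ext0_notMem F hx, ext0_notMem]
    intro hdx
    apply hx
    have := hn.conj_mem _ hdx d⁻¹
    simpa [mul_assoc] using this

/-- The data on the principal block of a group with a four-group as Sylow 2-subgroup. -/
structure KleinBlock (M : Ideal Cfsg.AlgInt) (K : Type u) [Group K] [Finite K]
    (ξ : Fin 3 → Cfsg.IrrCharacter K) (s : Fin 3 → ℤ) : Prop where
  sgn : ∀ i, s i * s i = 1
  inj : Function.Injective ξ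
  ne_one : ∀ i, ξ i ≠ BlocksDefect.oneIrr K
  mem : ∀ χ ∈ Cfsg.principalBlock M K, χ = BlocksDefect.oneIrr K ∨ ∃ i, χ = ξ i
  rel : ∀ y : K, ¬ 2 ∣ orderOf y → 1 + ∑ i, (s i : ℂ) * (ξ i : K → ℂ) y = 0
  sing : ∀ x : K, 2 ∣ orderOf x → ∀ i, (s i : ℂ) * (ξ i : K → ℂ) x = 1
  block : ∀ i, ξ i ∈ Cfsg.principalBlock M K

theorem exists_kleinBlock {K : Type u} [Group K] [Finite K] {M : Ideal Cfsg.AlgInt}
    (hM : Cfsg.IsPModular 2 M) (T : Sylow 2 K) (hT : Nat.card (T : Subgroup K) = 4)
    (hTsq : ∀ x ∈ (T : Subgroup K), x * x = 1) (hns : ¬ Group.IsSolvable K) :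
    ∃ ξ : Fin 3 → Cfsg.IrrCharacter K, ∃ s : Fin 3 → ℤ, KleinBlock M K ξ s := by
  classical
  haveI : Fact (Nat.Prime 2) := ⟨Nat.prime_two⟩
  haveI := Fintype.ofFinite K
  have hklein : ∀ S : Subgroup K, Nat.card S = 4 → (∀ x ∈ S, x * x = 1) → IsKleinFour S :=
    fun S hc hsq => {
      card_four := hc
      exponent_two := by
        haveI : Nontrivial S := Finite.one_lt_card_iff_nontrivial.mp (by omega)
        exact (Monoid.exponent_eq_prime_iff Nat.prime_two).mpr fun g hg =>
          Involution.orderOf_eq_two_iff'.mpr ⟨Subtype.ext (hsq g g.2), hg⟩ }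
  have hTK := hklein _ hT hTsq
  have hone : ∀ s t : K, orderOf s = 2 → orderOf t = 2 → IsConj s t := by
    refine (Involution.klein_sylow_dichotomy T hTK).resolve_left fun hN => hns ?_
    have hc := MonoidHom.ker_transferSylow_isComplement' T hN
    have hodd : Odd (Nat.card (MonoidHom.transferSylow T hN).ker) := by
      rw [← hc.index_eq_card]
      exact Nat.not_even_iff_odd.mp fun he => T.not_dvd_index (even_iff_two_dvd.mp he)
    haveI := CharDeep.FSys.solvable_of_odd hodd
    haveI : Group.IsSolvable (T : Subgroup K) := by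
      haveI : Group.IsNilpotent (T : Subgroup K) := T.2.isNilpotent
      infer_instance
    exact Group.isSolvable_of_ker_le_range (MonoidHom.transferSylow T hN).ker.subtype
      (MonoidHom.transferSylow T hN) (by rw [Subgroup.range_subtype])
  obtain ⟨ζ₂, ζ₃, ζ₄, ε, hε, h2one, h3one, h23, h24, h34, hB, hval, -, -, -, hy⟩ :=
    ZStar.klein_principal_block hM T hTK hone
  have hT2 : 2 ∣ Nat.card (T : Subgroup K) := by rw [hT]; norm_num
  obtain ⟨a, ha, ha2⟩ := Involution.exists_involution_of_even (H := (T : Subgroup K))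
    (even_iff_two_dvd.mpr hT2)
  have h4one : (ζ₄ : K → ℂ) ≠ fun _ => 1 := fun e => by
    have := (hval a ha2).2.2
    rw [e] at this
    norm_num at this
  have hmem : ∀ χ, χ ∈ ({ζ₂, ζ₃, ζ₄} : Set (Cfsg.IrrCharacter K)) →
      χ ∈ Cfsg.principalBlock M K := by
    intro χ hχ
    rw [hB]
    rcases hχ with rfl | rfl | rfl
    · exact Or.inr (Or.inl rfl)
    · exact Or.inr (Or.inr (Or.inl rfl))
    · exact Or.inr (Or.inr (Or.inr rfl))
  have hconst : ∀ x : K, 2 ∣ orderOf x → ∃ t : K, orderOf t = 2 ∧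
      ∀ χ ∈ Cfsg.principalBlock M K, (χ : K → ℂ) x = (χ : K → ℂ) t := by
    intro x hx
    obtain ⟨n, hn⟩ := hx
    have hnodd : ¬ 2 ∣ n := by
      rintro ⟨l, rfl⟩
      -- an element of order four
      have h4 : orderOf (x ^ l) = 4 := by
        have hl : l ≠ 0 := by
          rintro rfl
          exact (orderOf_pos x).ne' (by rw [hn])
        rw [orderOf_pow_of_dvd hl ⟨4, by rw [hn]; ring⟩, hn,
          show 2 * (2 * l) = 4 * l by ring, Nat.mul_div_cancel _ (Nat.pos_of_ne_zero hl)]
      obtain ⟨S, hS⟩ := (IsPGroup.of_card (p := 2) (n := 2)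
        (by rw [Nat.card_zpowers, h4]; rfl) : IsPGroup 2 (zpowers (x ^ l))).exists_le_sylow
      obtain ⟨d, hd⟩ := MulAction.exists_smul_eq K S T
      have hm : d * x ^ l * d⁻¹ ∈ (T : Subgroup K) :=
        hd ▸ Involution.conj_mem_sylow_smul d (hS (mem_zpowers _))
      have := orderOf_dvd_of_pow_eq_one (x := d * x ^ l * d⁻¹) (n := 2)
        (by rw [pow_two]; exact hTsq _ hm)
      rw [Involution.orderOf_conj, h4] at this
      norm_num at this
    have ht : orderOf (x ^ n) = 2 := by
      have hn0 : n ≠ 0 := by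
        rintro rfl
        exact (orderOf_pos x).ne' (by rw [hn])
      rw [orderOf_pow_of_dvd hn0 ⟨2, by rw [hn]; ring⟩, hn,
        Nat.mul_div_cancel _ (Nat.pos_of_ne_zero hn0)]
    refine ⟨x ^ n, ht, fun χ hχ => ?_⟩
    set t := x ^ n
    obtain ⟨S, hS⟩ := (IsPGroup.of_card (p := 2) (n := 1)
      (by rw [Nat.card_zpowers, ht]; rfl) : IsPGroup 2 (zpowers t)).exists_le_sylow
    obtain ⟨d, hd⟩ := MulAction.exists_smul_eq K S T
    have hSK : IsKleinFour (S : Subgroup K) := by
      refine hklein _ ?_ fun y hy => ?_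
      · rw [← hT]; exact Nat.card_congr (Sylow.equiv S T).toEquiv
      · have hy' : d * y * d⁻¹ ∈ (T : Subgroup K) := hd ▸ Involution.conj_mem_sylow_smul d hy
        have := hTsq _ hy'
        rw [show d * y * d⁻¹ * (d * y * d⁻¹) = d * (y * y) * d⁻¹ by group] at this
        exact conj_eq_one_iff.mp this
    obtain ⟨L, hL, hcard, -⟩ := ZStar.klein_sectionData hSK (hS (mem_zpowers t)) ht
    set C := centralizer ({t} : Set K)
    have hwC : x ^ (n + 1) ∈ C :=
      mem_centralizer_singleton_iff.mpr (Commute.pow_pow_self x (n + 1) n).eq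
    haveI : (L.subgroupOf C).Normal :=
      (Subgroup.normal_subgroupOf_iff_le_normalizer hL.le).mpr hL.normal
    have hidx : (L.subgroupOf C).index = 4 := by
      have h1 := (L.subgroupOf C).card_mul_index
      rw [Nat.card_congr (Subgroup.subgroupOfEquivOfLe hL.le).toEquiv, hcard, mul_comm 4] at h1
      exact Nat.eq_of_mul_eq_mul_left Nat.card_pos h1
    have h4 : (x ^ (n + 1)) ^ 4 ∈ L := by
      have := (L.subgroupOf C).pow_index_mem ⟨_, hwC⟩
      rw [hidx] at this
      exact this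
    have hwn : (x ^ (n + 1)) ^ n = 1 := by
      obtain ⟨j, hj⟩ : 2 ∣ n + 1 := by omega
      rw [← pow_mul, ← orderOf_dvd_iff_pow_eq_one, hn, hj]
      exact ⟨j, by ring⟩
    have hcop : Nat.Coprime 4 n := by
      rw [show (4 : ℕ) = 2 ^ 2 from rfl]
      exact Nat.Coprime.pow_left 2 ((Nat.Prime.coprime_iff_not_dvd Nat.prime_two).mpr hnodd)
    obtain ⟨m, hm⟩ := exists_pow_eq_self_of_coprime (x := x ^ (n + 1)) (n := 4)
      (hcop.coprime_dvd_right (orderOf_dvd_of_pow_eq_one hwn))
    have hw : x ^ (n + 1) ∈ L := hm ▸ pow_mem h4 m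
    rw [← ZStar.apply_mul_eq hM hL hχ hw]
    congr 1
    rw [← pow_add, show n + (n + 1) = orderOf x + 1 by omega, pow_succ, pow_orderOf_eq_one,
      one_mul]
  refine ⟨![ζ₂, ζ₃, ζ₄], ![1, ε, -1], ⟨?_, ?_, ?_, ?_, ?_, ?_, ?_⟩⟩
  · intro i
    fin_cases i <;> rcases hε with rfl | rfl <;> simp
  · intro i j hij
    fin_cases i <;> fin_cases j <;> simp_all [eq_comm]
  · intro i e
    have e' : ((![ζ₂, ζ₃, ζ₄] i : Cfsg.IrrCharacter K) : K → ℂ) = fun _ => 1 := by rw [e]; rfl
    fin_cases i <;> simp at e' <;> [exact h2one e'; exact h3one e'; exact h4one e']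
  · intro χ hχ
    rw [hB] at hχ
    rcases hχ with h | h | h | h
    · exact Or.inl (Subtype.ext h)
    · exact Or.inr ⟨0, h⟩
    · exact Or.inr ⟨1, h⟩
    · exact Or.inr ⟨2, h⟩
  · intro y hy2
    have := hy y (Nat.not_even_iff_odd.mp fun he => hy2 (even_iff_two_dvd.mp he))
    simp only [Fin.sum_univ_three, Matrix.cons_val_zero, Matrix.cons_val_one, Matrix.cons_val]
    push_cast
    linear_combination this
  · intro x hx i
    obtain ⟨t, ht, he⟩ := hconst x hx
    obtain ⟨v2, v3, v4⟩ := hval t ht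
    fin_cases i
    · simp [he ζ₂ (hmem _ (by simp)), v2]
    · rcases hε with rfl | rfl <;> simp [he ζ₃ (hmem _ (by simp)), v3]
    · simp [he ζ₄ (hmem _ (by simp)), v4]
  · intro i
    fin_cases i <;> exact hmem _ (by simp)

/-- Splitting off a central involution from an elementary abelian Sylow 2-subgroup of order 8. -/
theorem exists_split (Q : Sylow 2 H) (hQ : Nat.card (Q : Subgroup H) = 8)
    (hsq : ∀ x ∈ (Q : Subgroup H), x * x = 1) (hzQ : z ∈ (Q : Subgroup H)) (hz1 : z ≠ 1)
    (hc : ∀ h : H, h * z = z * h) (hns : ¬ Group.IsSolvable H) :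
    ∃ K : Subgroup H, Split2 z K ∧ ¬ Group.IsSolvable K ∧
      ∃ T : Sylow 2 K, Nat.card (T : Subgroup K) = 4 ∧ ∀ x ∈ (T : Subgroup K), x * x = 1 := by
  classical
  haveI : Fact (Nat.Prime 2) := ⟨Nat.prime_two⟩
  set QQ := (Q : Subgroup H)
  have hsq' : ∀ x : QQ, x * x = 1 := fun x => Subtype.ext (hsq x x.2)
  have hinv : ∀ x : QQ, x⁻¹ = x := fun x => inv_eq_of_mul_eq_one_right (hsq' x)
  have hcomm : ∀ x y : QQ, x * y = y * x := fun x y => by
    rw [← hinv (x * y), mul_inv_rev, hinv, hinv]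
  set zq : QQ := ⟨z, hzQ⟩
  have hzq : zq ≠ 1 := fun e => hz1 (congrArg Subtype.val e)
  obtain ⟨R, -, hR⟩ := Finite.exists_le_maximal (p := fun R : Subgroup QQ => zq ∉ R)
    (a := (⊥ : Subgroup QQ)) (by simpa using hzq)
  have hRn : R.Normal := ⟨fun r hr g => by rwa [hcomm g r, mul_inv_cancel_right]⟩
  have hRmul : ∀ x, x ∉ R → x * zq ∈ R := by
    intro x hx
    have hz' : zq ∈ R ⊔ zpowers x := by
      by_contra hno
      exact hx (hR.2 hno le_sup_left (mem_sup_right (mem_zpowers x)))
    obtain ⟨r, hr, y, hy, hry⟩ := Subgroup.mem_sup_of_normal_left.mp hz'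
    obtain ⟨i, rfl⟩ := mem_zpowers_iff.mp hy
    obtain ⟨j, hj | hj⟩ := Int.even_or_odd' i
    · exfalso
      refine hR.1 ?_
      rw [← hry, hj, zpow_mul, zpow_two, hsq', one_zpow, mul_one]
      exact hr
    · rw [hj, zpow_add, zpow_mul, zpow_two, hsq', one_zpow, one_mul, zpow_one] at hry
      rw [← hry, hcomm r x, ← mul_assoc, hsq', one_mul]
      exact hr
  have hidx : R.index = 2 := Subgroup.index_eq_two_iff.mpr ⟨zq, fun b => by
    by_cases hb : b ∈ R
    · exact Or.inr ⟨hb, fun h' => hR.1 ((Subgroup.mul_mem_cancel_left R hb).mp h')⟩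
    · exact Or.inl ⟨hRmul b hb, hb⟩⟩
  let φ : QQ →* ℤˣ :=
    { toFun := fun x => if x ∈ R then 1 else -1
      map_one' := if_pos R.one_mem
      map_mul' := fun x y => by
        simp only [Subgroup.mul_mem_iff_of_index_two hidx]
        by_cases hx : x ∈ R <;> by_cases hy : y ∈ R <;> simp [hx, hy] }
  let σ : H →* ℤˣ := MonoidHom.transfer φ
  have hodd : Odd QQ.index :=
    Nat.not_even_iff_odd.mp fun he => Q.not_dvd_index (even_iff_two_dvd.mp he)
  have hσz : σ z = -1 := by
    show MonoidHom.transfer φ z = -1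
    rw [MonoidHom.transfer_eq_pow φ z fun k g₀ _ => by
      have hk : Commute g₀ (z ^ k) := (show Commute g₀ z from hc g₀).pow_right k
      rw [mul_assoc, ← hk.eq, inv_mul_cancel_left]]
    have hzpow : z ^ QQ.index = z := by
      obtain ⟨j, hj⟩ := hodd
      rw [hj, pow_succ, pow_mul, pow_two, hsq z hzQ, one_pow, one_mul]
    show (if _ ∈ R then (1 : ℤˣ) else -1) = -1
    rw [if_neg]
    intro hmem
    refine hR.1 ?_
    convert hmem using 1
    exact Subtype.ext hzpow.symm
  have hK : σ.ker.index = 2 := by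
    rw [Subgroup.index_ker]
    have hr : σ.range = ⊤ := by
      rw [eq_top_iff]
      intro x _
      rcases Int.units_eq_one_or x with rfl | rfl
      · exact one_mem _
      · exact ⟨z, hσz⟩
    rw [hr, Subgroup.card_top, Nat.card_eq_fintype_card]
    rfl
  have hsplit : Split2 z σ.ker := ⟨hK, hc, fun hm => by
    rw [MonoidHom.mem_ker, hσz] at hm
    exact absurd hm (by decide), hsq z hzQ⟩
  refine ⟨σ.ker, hsplit, fun hs => hns ?_, ?_⟩
  · haveI := hs
    exact Group.isSolvable_of_ker_le_range σ.ker.subtype σ (by rw [Subgroup.range_subtype])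
  let T : Sylow 2 σ.ker := default
  refine ⟨T, ?_, fun x hx => ?_⟩
  · have h8 := Q.card_eq_multiplicity
    rw [hQ, ← σ.ker.card_mul_index, hK, Nat.factorization_mul Nat.card_pos.ne' two_ne_zero,
      Finsupp.add_apply, Nat.Prime.factorization_self Nat.prime_two] at h8
    have h2 : (Nat.card σ.ker).factorization 2 = 2 := by
      have := Nat.pow_right_injective (le_refl 2) (h8.symm.trans (show (8 : ℕ) = 2 ^ 3 from rfl))
      omega
    rw [T.card_eq_multiplicity, h2]
    norm_num
  · obtain ⟨S, hS⟩ := (T.2.map σ.ker.subtype).exists_le_sylow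
    obtain ⟨d, hd⟩ := MulAction.exists_smul_eq H S Q
    have hm : d * (x : H) * d⁻¹ ∈ (Q : Subgroup H) :=
      hd ▸ Involution.conj_mem_sylow_smul d (hS (mem_map_of_mem σ.ker.subtype hx))
    have := hsq _ hm
    rw [show d * (x : H) * d⁻¹ * (d * x * d⁻¹) = d * (x * x : H) * d⁻¹ by group,
      conj_eq_one_iff] at this
    exact Subtype.ext this

end Cfsg.Agent.CD88
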