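import Cfsg.Agent.CD88.Basics
import Cfsg.Agent.OddLocal44.Stability
import Cfsg.Agent.Lib.Thompson.PSolvable
import Cfsg.Agent.S4487
import Cfsg.Agent.ZStar.Blocks

/-!
# S4514: a solvable centraliser of an involution
-/

set_option autoImplicit false
set_option maxHeartbeats 400000

namespace Cfsg.Agent.CD88

open Subgroup Finset
open scoped ComplexConjugate

universe u

section Structure

variable {X : Type*} [Group X] [Finite X]

/-- With abelian Sylow 2-subgroups and `O(X) = 1`, a solvable group has a normal Sylow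
2-subgroup. -/
theorem sylow_eq_pCore [Group.IsSolvable X] (hO : Cfsg.pPrimeCore 2 X = ⊥)
    (hab : ∀ (R : Sylow 2 X), ∀ a ∈ (R : Subgroup X), ∀ b ∈ (R : Subgroup X), a * b = b * a)
    (R : Sylow 2 X) : (R : Subgroup X) = Cfsg.pCore 2 X := by
  have h1 := Thompson.centralizer_pCore_le (OddLocal44.isPSolvable_of_isSolvable (p := 2)) hO
  have hQ : IsPGroup 2 ↥(Cfsg.pCore 2 X) := Thompson.isPGroup_pCore
  have h2 : Cfsg.pCore 2 X ≤ (R : Subgroup X) := hQ.le_sylow_of_normal R
  refine le_antisymm (fun x hx => h1 (mem_centralizer_iff.mpr fun y hy => ?_)) h2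
  exact hab R y (h2 hy) x hx

/-- Elements of odd order of a group with a normal Sylow 2-subgroup are not real. -/
theorem not_real {Q : Subgroup X} [Q.Normal] (R : Sylow 2 X) (hR : (R : Subgroup X) = Q) {w : X}
    (hw : ¬ 2 ∣ orderOf w) (hw1 : w ≠ 1) : ¬ IsConj w w⁻¹ := by
  intro hc
  obtain ⟨x, hx⟩ := isConj_iff.mp hc
  have hodd : Odd (Nat.card (X ⧸ Q)) := by
    rw [Nat.odd_iff, ← Nat.two_dvd_ne_zero, ← Subgroup.index, ← hR]
    exact R.not_dvd_index
  set u : X ⧸ Q := (w : X ⧸ Q)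
  set y : X ⧸ Q := (x : X ⧸ Q)
  have hu : y * u * y⁻¹ = u⁻¹ := congrArg (QuotientGroup.mk (s := Q)) hx
  have h1 : y * (y * u * y⁻¹) * y⁻¹ = u := by
    rw [hu, ← conj_inv, hu, inv_inv]
  have h2 : Commute (y ^ 2) u := by
    show y ^ 2 * u = u * y ^ 2
    calc y ^ 2 * u = (y * (y * u * y⁻¹) * y⁻¹) * y ^ 2 := by simp [pow_two, mul_assoc]
      _ = u * y ^ 2 := by rw [h1]
  obtain ⟨m, hm⟩ : ∃ m, y = (y ^ 2) ^ m :=
    ⟨(orderOf y + 1) / 2, by
      rw [← pow_mul]
      have h3 : Odd (orderOf y) := hodd.of_dvd_nat (orderOf_dvd_natCard y)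
      rw [Nat.mul_div_cancel' (by obtain ⟨j, hj⟩ := h3; omega), pow_succ, pow_orderOf_eq_one,
        one_mul]⟩
  have h4 : Commute y u := hm ▸ h2.pow_left m
  rw [h4.eq, mul_inv_cancel_right] at hu
  have h5 : u ^ 2 = 1 := by rw [pow_two]; nth_rw 1 [hu]; exact inv_mul_cancel u
  have h6 : u = 1 := by
    rw [← orderOf_eq_one_iff]
    exact Nat.eq_one_of_dvd_coprimes (Nat.coprime_two_left.mpr hodd)
      (orderOf_dvd_of_pow_eq_one h5) (orderOf_dvd_natCard u)
  have hmem : w ∈ (R : Subgroup X) := hR ▸ (QuotientGroup.eq_one_iff w).mp h6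
  obtain ⟨a, ha⟩ := IsPGroup.iff_orderOf.mp R.2 ⟨w, hmem⟩
  rw [Subgroup.orderOf_mk] at ha
  rcases Nat.eq_zero_or_pos a with rfl | ha0
  · exact hw1 (orderOf_eq_one_iff.mp (by simpa using ha))
  · exact hw (ha ▸ dvd_pow_self 2 ha0.ne')

end Structure

variable {G : Type u} [Group G] [Finite G] {M : Ideal Cfsg.AlgInt} {z : G}

open Classical in
/-- The indicator of a class of `C(z) ⧸ K`, scaled and pulled back. -/
noncomputable def fw (K : Subgroup ↥(centralizer ({z} : Set G))) [K.Normal]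
    (w : ↥(centralizer ({z} : Set G)) ⧸ K) : ↥(centralizer ({z} : Set G)) → ℂ :=
  fun h => (Nat.card {x : ↥(centralizer ({z} : Set G)) ⧸ K //
    x * (h : ↥(centralizer ({z} : Set G)) ⧸ K) * x⁻¹ = w} : ℂ)

open Classical in
/-- The average of `χ (z h)` over a coset of `K`. -/
noncomputable def avg (K : Subgroup ↥(centralizer ({z} : Set G))) [K.Normal]
    [Fintype ↥(centralizer ({z} : Set G))]
    (w : ↥(centralizer ({z} : Set G)) ⧸ K) (χ : Cfsg.IrrCharacter G) : ℂ :=
  (Nat.card K : ℂ)⁻¹ * ∑ h ∈ Finset.univ.filter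
    (fun h : ↥(centralizer ({z} : Set G)) => (h : ↥(centralizer ({z} : Set G)) ⧸ K) = w),
    (χ : G → ℂ) (z * (h : G))

section Quot

variable (K : Subgroup ↥(centralizer ({z} : Set G))) [K.Normal]

theorem conj_fw (w : ↥(centralizer ({z} : Set G)) ⧸ K) (h : ↥(centralizer ({z} : Set G))) :
    conj (fw K w h) = fw K w h := by
  rw [fw, map_natCast]

theorem fw_isConj {w : ↥(centralizer ({z} : Set G)) ⧸ K} {h : ↥(centralizer ({z} : Set G))}
    (hne : fw K w h ≠ 0) : IsConj (h : ↥(centralizer ({z} : Set G)) ⧸ K) w := by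
  rw [fw, Nat.cast_ne_zero, Nat.card_ne_zero] at hne
  obtain ⟨⟨x, hx⟩⟩ := hne.1
  exact isConj_iff.mpr ⟨x, hx⟩

theorem isSecFun_fw (hM : Cfsg.IsPModular 2 M) (hK : Odd (Nat.card K))
    [Fintype ↥(centralizer ({z} : Set G))]
    (hblock : ∀ θ : Cfsg.IrrCharacter (↥(centralizer ({z} : Set G)) ⧸ K),
      Cfsg.SameBlock M (θ : ↥(centralizer ({z} : Set G)) ⧸ K → ℂ) (fun _ => (1 : ℂ)))
    (w : ↥(centralizer ({z} : Set G)) ⧸ K) (hw : ¬ 2 ∣ orderOf w) : IsSecFun 2 M (fw K w) := by
  classical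
  haveI := Fintype.ofFinite (↥(centralizer ({z} : Set G)) ⧸ K)
  set g : ↥(centralizer ({z} : Set G)) ⧸ K → ℂ :=
    fun y => (Nat.card {x : ↥(centralizer ({z} : Set G)) ⧸ K // x * y * x⁻¹ = w} : ℂ) with hg
  have hgc : Cfsg.IsClassFunction _ g := by
    intro a b
    rw [hg]
    simp only
    refine congrArg _ (Nat.card_congr ((Equiv.mulRight b).subtypeEquiv fun x => ?_))
    rw [Equiv.coe_mulRight, mul_inv_rev]
    simp only [mul_assoc]
  have hfg : fw K w = g ∘ QuotientGroup.mk := rfl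
  refine ⟨fun a b => ?_, fun h hh => ?_, fun ψ hψ => ?_⟩
  · rw [hfg, Function.comp_apply, Function.comp_apply]
    simp only [QuotientGroup.mk_mul, QuotientGroup.mk_inv]
    exact hgc _ _
  · by_contra hne
    obtain ⟨x, hx⟩ := isConj_iff.mp (fw_isConj K hne)
    refine hw ?_
    rw [← hx, show orderOf (x * (h : ↥(centralizer ({z} : Set G)) ⧸ K) * x⁻¹) =
      orderOf (h : ↥(centralizer ({z} : Set G)) ⧸ K) from MulEquiv.orderOf_eq (MulAut.conj x) _]
    by_contra h2
    have hpow : h ^ orderOf (h : ↥(centralizer ({z} : Set G)) ⧸ K) ∈ K := by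
      rw [← QuotientGroup.eq_one_iff, QuotientGroup.mk_pow, pow_orderOf_eq_one]
    have h3 : orderOf h ∣ orderOf (h : ↥(centralizer ({z} : Set G)) ⧸ K) * Nat.card K := by
      apply orderOf_dvd_of_pow_eq_one
      rw [pow_mul]
      exact congrArg Subtype.val (pow_card_eq_one' (x := (⟨_, hpow⟩ : K)))
    rcases Nat.prime_two.dvd_mul.mp (hh.trans h3) with h4 | h4
    · exact h2 h4
    · exact Nat.not_even_iff_odd.mpr hK (even_iff_two_dvd.mpr h4)
  · rw [hfg, CharCore.eq_sum_classInner hgc]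
    rw [show (∑ θ : Cfsg.IrrCharacter (↥(centralizer ({z} : Set G)) ⧸ K),
        Cfsg.classInner g θ • (θ : ↥(centralizer ({z} : Set G)) ⧸ K → ℂ)) ∘ QuotientGroup.mk =
        ∑ θ : Cfsg.IrrCharacter (↥(centralizer ({z} : Set G)) ⧸ K), Cfsg.classInner g θ •
          (BlocksDefect.inflate K θ : ↥(centralizer ({z} : Set G)) → ℂ) from by
        funext h
        simp [BlocksDefect.inflate, Finset.sum_apply]]
    rw [CharCore.classInner_sum_right]
    refine Finset.sum_eq_zero fun θ _ => ?_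
    rw [CharCore.classInner_smul_right, CharCore.classInner_irr_of_ne ?_, mul_zero]
    rintro rfl
    refine hψ ?_
    have := BlocksCore.isPrime hM
    exact BlocksCore.sameBlock_symm <| BlocksDefect.sameBlock_inflate (N := K) hM (ψ := ⟨fun _ => 1, CharCore.isIrrCharacter_one⟩)
      (hblock θ)

theorem mult_fw [Fintype ↥(centralizer ({z} : Set G))]
    (w : ↥(centralizer ({z} : Set G)) ⧸ K) (χ : Cfsg.IrrCharacter G) :
    mult z (fw K w) χ = avg K w χ := by
  classical
  haveI := Fintype.ofFinite (↥(centralizer ({z} : Set G)) ⧸ K)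
  have hcl : ∀ a b : ↥(centralizer ({z} : Set G)),
      (χ : G → ℂ) (z * ((b * a * b⁻¹ : ↥(centralizer ({z} : Set G))) : G)) =
        (χ : G → ℂ) (z * (a : G)) := fun a b => isClassFunction_sec z χ a b
  have hfib : ∀ x : ↥(centralizer ({z} : Set G)) ⧸ K,
      ∑ h ∈ Finset.univ.filter (fun h : ↥(centralizer ({z} : Set G)) =>
        x * (h : ↥(centralizer ({z} : Set G)) ⧸ K) * x⁻¹ = w), (χ : G → ℂ) (z * (h : G)) =
      ∑ h ∈ Finset.univ.filter (fun h : ↥(centralizer ({z} : Set G)) =>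
        (h : ↥(centralizer ({z} : Set G)) ⧸ K) = w), (χ : G → ℂ) (z * (h : G)) := by
    intro x
    induction x using QuotientGroup.induction_on with
    | _ b =>
      refine Finset.sum_nbij' (fun a => b * a * b⁻¹) (fun a => b⁻¹ * a * b) ?_ ?_ ?_ ?_ ?_
      · intro a ha; simpa using ha
      · intro a ha
        simp only [Finset.mem_coe, Finset.mem_filter, Finset.mem_univ, true_and] at ha ⊢
        rw [← ha]; simp [mul_assoc]
      · intro a _; simp [mul_assoc]
      · intro a _; simp [mul_assoc]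
      · intro a _; exact (hcl a b).symm
  have hswap : ∑ h : ↥(centralizer ({z} : Set G)), (χ : G → ℂ) (z * (h : G)) * conj (fw K w h) =
      ∑ x : ↥(centralizer ({z} : Set G)) ⧸ K, ∑ h ∈ Finset.univ.filter
        (fun h : ↥(centralizer ({z} : Set G)) =>
          x * (h : ↥(centralizer ({z} : Set G)) ⧸ K) * x⁻¹ = w), (χ : G → ℂ) (z * (h : G)) := by
    simp only [Finset.sum_filter]
    rw [Finset.sum_comm]
    refine Finset.sum_congr rfl fun h _ => ?_
    rw [conj_fw, fw, Nat.card_eq_fintype_card, Fintype.card_subtype, ← Finset.sum_filter,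
      Finset.sum_const, nsmul_eq_mul, mul_comm]
  rw [mult_def, hswap, Finset.sum_congr rfl fun x _ => hfib x, Finset.sum_const, Finset.card_univ,
    nsmul_eq_mul, avg, ← Nat.card_eq_fintype_card, Subgroup.card_eq_card_quotient_mul_card_subgroup K]
  push_cast
  have h1 : (Nat.card (↥(centralizer ({z} : Set G)) ⧸ K) : ℂ) ≠ 0 := by
    exact_mod_cast Nat.card_pos.ne'
  field_simp

theorem avg_memLocalRing (hM : Cfsg.IsPModular 2 M) (hK : Odd (Nat.card K))
    [Fintype ↥(centralizer ({z} : Set G))]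
    (w : ↥(centralizer ({z} : Set G)) ⧸ K) (χ : Cfsg.IrrCharacter G) :
    Cfsg.MemLocalRing M (avg K w χ) := by
  haveI := Fintype.ofFinite G
  have := BlocksCore.isPrime hM
  refine (BlocksCore.localRing M).mul_mem
    (BlocksCore.memLocalRing_natCast_inv hM fun h => Nat.not_even_iff_odd.mpr hK
      (even_iff_two_dvd.mpr h)) (BlocksCore.memLocalRing_sum fun h _ => ?_)
  exact BlocksCore.memLocalRing_of_isIntegral (BlocksCore.isIntegral_irr _ _)

theorem avg_one (χ : Cfsg.IrrCharacter G) (hχ : (χ : G → ℂ) = fun _ => 1)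
    [Fintype ↥(centralizer ({z} : Set G))] (w : ↥(centralizer ({z} : Set G)) ⧸ K) :
    avg K w χ = 1 := by
  classical
  rw [avg, hχ, Finset.sum_const, nsmul_eq_mul, mul_one,
    show (Finset.univ.filter fun h : ↥(centralizer ({z} : Set G)) =>
      (h : ↥(centralizer ({z} : Set G)) ⧸ K) = w).card = Nat.card K from ?_]
  · exact inv_mul_cancel₀ (by exact_mod_cast Nat.card_pos.ne')
  · rw [← Nat.card_eq_finsetCard]
    obtain ⟨b, rfl⟩ := QuotientGroup.mk_surjective w
    refine Nat.card_congr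
      { toFun := fun h => ⟨b⁻¹ * h.1, QuotientGroup.eq.mp
          (by simpa using (Finset.mem_filter.mp h.2).2.symm)⟩
        invFun := fun k => ⟨b * k.1, by simp [QuotientGroup.eq, k.2]⟩
        left_inv := fun h => by simp
        right_inv := fun k => by simp }

theorem conj_avg (hz : z ^ 2 = 1) [Fintype ↥(centralizer ({z} : Set G))]
    (w : ↥(centralizer ({z} : Set G)) ⧸ K) (χ : Cfsg.IrrCharacter G) :
    conj (avg K w χ) = avg K w⁻¹ χ := by
  classical
  haveI := Fintype.ofFinite G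
  rw [avg, avg, map_mul, map_inv₀, map_natCast, map_sum]
  congr 1
  refine Finset.sum_nbij' (fun a => a⁻¹) (fun a => a⁻¹) ?_ ?_ ?_ ?_ ?_
  · intro a ha; simpa using ha
  · intro a ha
    simp only [Finset.mem_coe, Finset.mem_filter, Finset.mem_univ, true_and] at ha ⊢
    rw [QuotientGroup.mk_inv, ha, inv_inv]
  · intro a _; simp
  · intro a _; simp
  · intro a _
    rw [BlocksCore.conj_irr, mul_inv_rev, Subgroup.coe_inv]
    refine congrArg (χ : G → ℂ) ?_
    have hzi : z⁻¹ = z := inv_eq_of_mul_eq_one_right (by rw [← pow_two, hz])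
    have hc : Commute z (a : G) := (mem_centralizer_singleton_iff.mp a.2).symm
    rw [hzi]
    exact hc.inv_right.eq.symm

end Quot

theorem parity (hM : Cfsg.IsPModular 2 M) {ι : Type*} (s : Finset ι) (A : ι → ℂ)
    (hA : ∀ i, Cfsg.MemLocalRing M (A i)) (h : Cfsg.MemLocalIdeal M (∑ i ∈ s, A i ^ 2)) :
    Cfsg.MemLocalIdeal M (∑ i ∈ s, A i) := by
  classical
  have := BlocksCore.isPrime hM
  have key : ∀ t : Finset ι, Cfsg.MemLocalIdeal M ((∑ i ∈ t, A i) ^ 2 - ∑ i ∈ t, A i ^ 2) := by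
    intro t
    induction t using Finset.induction_on with
    | empty => simpa using BlocksCore.memLocalIdeal_zero
    | insert a t ha ih =>
      rw [Finset.sum_insert ha, Finset.sum_insert ha,
        show (A a + ∑ i ∈ t, A i) ^ 2 - (A a ^ 2 + ∑ i ∈ t, A i ^ 2) =
          ((∑ i ∈ t, A i) ^ 2 - ∑ i ∈ t, A i ^ 2) + ((2 : ℕ) : ℂ) * (A a * ∑ i ∈ t, A i) by
            push_cast; ring]
      exact BlocksCore.memLocalIdeal_add ih (BlocksCore.memLocalIdeal_mul_right
        ((BlocksCore.memLocalIdeal_natCast_iff hM 2).mpr dvd_rfl)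
        ((BlocksCore.localRing M).mul_mem (hA a) (BlocksCore.memLocalRing_sum fun i _ => hA i)))
  have h2 := BlocksCore.memLocalIdeal_add (key s) h
  rw [sub_add_cancel] at h2
  exact (BlocksCore.memLocalIdeal_pow_iff (BlocksCore.memLocalRing_sum fun i _ => hA i)
    two_ne_zero).mp h2

theorem sum_all_eq (hM : Cfsg.IsPModular 2 M) (f : Cfsg.IrrCharacter G → ℂ)
    (hf : ∀ χ, χ ∉ Cfsg.principalBlock M G → f χ = 0) :
    ∑ χ : Cfsg.IrrCharacter G, f χ = f (BlocksDefect.oneIrr G) + ∑ χ ∈ npr M G, f χ := by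
  classical
  have := BlocksCore.isPrime hM
  rw [← finsum_principal, finsum_mem_eq_toFinset_sum]
  exact (Finset.sum_subset (Finset.subset_univ _) fun χ _ h => hf χ (by simpa using h)).symm

theorem sum_all_finsum (f : Cfsg.IrrCharacter G → ℂ)
    (hf : ∀ χ, χ ∉ Cfsg.principalBlock M G → f χ = 0) :
    ∑ χ : Cfsg.IrrCharacter G, f χ = ∑ᶠ χ ∈ Cfsg.principalBlock M G, f χ := by
  classical
  rw [finsum_mem_eq_toFinset_sum]
  exact (Finset.sum_subset (Finset.subset_univ _) fun χ _ h => hf χ (by simpa using h)).symm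

/-- The principal block when the centraliser of an involution is solvable. -/
theorem solvableCase (hM : Cfsg.IsPModular 2 M) (P : Sylow 2 G)
    (hexp : ∀ x ∈ (P : Subgroup G), x * x = 1) (hz : orderOf z = 2)
    (hsolv : Group.IsSolvable ↥(centralizer ({z} : Set G)))
    {v : ↥(centralizer ({z} : Set G))} (hv : ¬ 2 ∣ orderOf v) {k : ℕ} (hk0 : 0 < k)
    (hk : Const M (z * (v : G)) k) :
    k = Nat.card (P : Subgroup G) ∧
      (∃ K : Subgroup ↥(centralizer ({z} : Set G)), K.Normal ∧ Odd (Nat.card K) ∧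
        K.index = Nat.card (P : Subgroup G) ∧ v ∈ K) ∧
      (∀ χ ∈ Cfsg.principalBlock M G, (χ : G → ℂ) (z * (v : G)) = (χ : G → ℂ) z) ∧
      (∑ χ ∈ npr M G, (χ : G → ℂ) z) = -1 ∧
      (∑ χ ∈ npr M G, ((χ : G → ℂ) z) ^ 2) = (Nat.card (P : Subgroup G) : ℂ) - 1 := by
  classical
  haveI := Fintype.ofFinite G
  haveI := Fintype.ofFinite ↥(centralizer ({z} : Set G))
  haveI := hsolv
  have := BlocksCore.isPrime hM
  have hsq : z ^ 2 = 1 := by rw [← hz, pow_orderOf_eq_one]
  set K : Subgroup ↥(centralizer ({z} : Set G)) := Cfsg.pPrimeCore 2 ↥(centralizer ({z} : Set G)) with hKdef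
  haveI : K.Normal := Cfsg.pPrimeCore_normal 2 _
  haveI := Fintype.ofFinite (↥(centralizer ({z} : Set G)) ⧸ K)
  have hK : Odd (Nat.card K) := Nat.coprime_two_right.mp Thompson.card_pPrimeCore_coprime
  -- the Sylow 2-subgroups of `C(z)`
  have hcomm : ∀ (Q : Sylow 2 G), ∀ a ∈ (Q : Subgroup G), ∀ b ∈ (Q : Subgroup G), a * b = b * a := by
    intro Q
    obtain ⟨c, rfl⟩ := MulAction.exists_smul_eq G P Q
    have hsq' : ∀ a ∈ ((c • P : Sylow 2 G) : Subgroup G), a * a = 1 := by
      intro a ha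
      obtain ⟨a', ha', rfl⟩ := ha
      show MulAut.conj c a' * MulAut.conj c a' = 1
      rw [← map_mul, hexp a' ha', map_one]
    intro a ha b hb
    have h := hsq' _ (mul_mem ha hb)
    calc a * b = a * (a * b * (a * b)) * b := by rw [h, mul_one]
      _ = a * a * (b * a) * (b * b) := by group
      _ = b * a := by rw [hsq' a ha, hsq' b hb, one_mul, mul_one]
  obtain ⟨Q, hQ⟩ := IsPGroup.exists_le_sylow (G := G) (p := 2) (P := Subgroup.zpowers z)
    (IsPGroup.of_card (n := 1) (by rw [Nat.card_zpowers, hz, pow_one]))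
  have hQH : (Q : Subgroup G) ≤ (centralizer ({z} : Set G)) := fun a ha =>
    mem_centralizer_singleton_iff.mpr (hcomm Q a ha z (hQ (mem_zpowers z)))
  set R := Q.subtype hQH with hR
  have hRcard : Nat.card (R : Subgroup ↥(centralizer ({z} : Set G))) = Nat.card (P : Subgroup G) := by
    rw [Sylow.coe_subtype, Nat.card_congr (Subgroup.subgroupOfEquivOfLe hQH).toEquiv]
    exact Nat.card_congr (Sylow.equiv Q P).toEquiv
  have hab : ∀ T : Sylow 2 (↥(centralizer ({z} : Set G)) ⧸ K), ∀ a ∈ (T : Subgroup (↥(centralizer ({z} : Set G)) ⧸ K)),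
      ∀ b ∈ (T : Subgroup (↥(centralizer ({z} : Set G)) ⧸ K)), a * b = b * a := by
    intro T
    obtain ⟨S, hS⟩ := Sylow.mapSurjective_surjective (QuotientGroup.mk'_surjective K) 2 T
    subst hS
    intro a ha b hb
    obtain ⟨a', ha', rfl⟩ := ha
    obtain ⟨b', hb', rfl⟩ := hb
    obtain ⟨c, rfl⟩ := MulAction.exists_smul_eq ↥(centralizer ({z} : Set G)) R S
    obtain ⟨a'', ha'', rfl⟩ := ha'
    obtain ⟨b'', hb'', rfl⟩ := hb'
    have := hcomm Q _ (Subgroup.mem_subgroupOf.mp ha'') _ (Subgroup.mem_subgroupOf.mp hb'')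
    show QuotientGroup.mk' K (MulAut.conj c a'') * QuotientGroup.mk' K (MulAut.conj c b'') =
      QuotientGroup.mk' K (MulAut.conj c b'') * QuotientGroup.mk' K (MulAut.conj c a'')
    rw [← map_mul, ← map_mul, ← map_mul, ← map_mul, show a'' * b'' = b'' * a'' from Subtype.ext this]
  have hO : Cfsg.pPrimeCore 2 (↥(centralizer ({z} : Set G)) ⧸ K) = ⊥ := Thompson.pPrimeCore_quotient_pPrimeCore
  haveI : Group.IsSolvable (↥(centralizer ({z} : Set G)) ⧸ K) := Group.isSolvable_of_surjective (QuotientGroup.mk'_surjective K)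
  set T := R.mapSurjective (QuotientGroup.mk'_surjective K) with hT
  have hTeq := sylow_eq_pCore hO hab T
  have hblock : ∀ θ : Cfsg.IrrCharacter (↥(centralizer ({z} : Set G)) ⧸ K),
      Cfsg.SameBlock M (θ : ↥(centralizer ({z} : Set G)) ⧸ K → ℂ) (fun _ => (1 : ℂ)) := fun θ =>
    S4487.result 2 M hM hO
      (Thompson.centralizer_pCore_le (OddLocal44.isPSolvable_of_isSolvable (p := 2)) hO)
      θ ⟨fun _ => 1, CharCore.isIrrCharacter_one⟩
  have hTcard : Nat.card (T : Subgroup (↥(centralizer ({z} : Set G)) ⧸ K)) = Nat.card (P : Subgroup G) := by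
    rw [← hRcard]
    refine (Nat.card_congr (Equiv.ofBijective (fun a : (R : Subgroup ↥(centralizer ({z} : Set G))) =>
      (⟨QuotientGroup.mk' K a.1, mem_map_of_mem _ a.2⟩ :
        (T : Subgroup (↥(centralizer ({z} : Set G)) ⧸ K)))) ⟨?_, ?_⟩)).symm
    · intro a b hab'
      have h1 : (a⁻¹ * b : (R : Subgroup ↥(centralizer ({z} : Set G)))).1 ∈ K := QuotientGroup.eq.mp (congrArg Subtype.val hab')
      have h2 : orderOf (a⁻¹ * b) ∣ Nat.card K := by
        rw [← Subgroup.orderOf_coe]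
        exact Subgroup.orderOf_dvd_natCard _ h1
      obtain ⟨e, he⟩ := IsPGroup.iff_orderOf.mp R.2 (a⁻¹ * b)
      rw [he] at h2
      rcases Nat.eq_zero_or_pos e with rfl | he0
      · exact (inv_mul_eq_one.mp (orderOf_eq_one_iff.mp (by simpa using he)))
      · exact absurd (even_iff_two_dvd.mpr ((dvd_pow_self 2 he0.ne').trans h2))
          (Nat.not_even_iff_odd.mpr hK)
    · rintro ⟨_, a, ha, rfl⟩
      exact ⟨⟨a, ha⟩, rfl⟩
  have hvK1 : ¬ 2 ∣ orderOf (1 : ↥(centralizer ({z} : Set G)) ⧸ K) := by simp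
  -- the multiplicities
  have hz' : orderOf z = 2 ^ 1 := by rw [hz, pow_one]
  have hoff : ∀ w : ↥(centralizer ({z} : Set G)) ⧸ K, ¬ 2 ∣ orderOf w → ∀ χ : Cfsg.IrrCharacter G,
      χ ∉ Cfsg.principalBlock M G → avg K w χ = 0 := fun w hw χ hχ => by
    rw [← mult_fw]
    exact mult_eq_zero hM hz' (isSecFun_fw K hM hK hblock w hw) hχ
  have hmain : ∀ w : ↥(centralizer ({z} : Set G)) ⧸ K, ¬ 2 ∣ orderOf w →
      (k : ℂ) * ∑ χ ∈ npr M G, avg K w χ = - fw K w v := by
    intro w hw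
    have hsf := isSecFun_fw K hM hK hblock w hw
    have h1 : ∑ᶠ χ ∈ Cfsg.principalBlock M G, (χ : G → ℂ) 1 * avg K w χ = 0 := by
      have h0 := sum_mult_conj_zero hsf (1 : G) fun h hh hc => by
        rw [isConj_one_left, mul_eq_one_iff_eq_inv] at hc
        have h' : orderOf (h : G) = orderOf z := ((congrArg orderOf hc).trans (orderOf_inv (h : G))).symm
        rw [Subgroup.orderOf_coe] at h'
        exact hh ((h'.trans hz).symm ▸ dvd_rfl)
      rw [sum_all_finsum (M := M) _ fun χ hχ => by rw [mult_fw, hoff w hw χ hχ, zero_mul]] at h0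
      rw [← h0]
      exact finsum_congr fun χ => finsum_congr fun _ => by
        rw [BlocksCore.irr_one_eq, map_natCast, mult_fw, mul_comm]
    have h2 : ∑ᶠ χ ∈ Cfsg.principalBlock M G, (χ : G → ℂ) (z * (v : G)) * avg K w χ =
        fw K w v := by
      rw [← conj_fw K w v, ← sum_mult_conj hz' hsf v hv,
        sum_all_finsum (M := M) _ fun χ hχ => by rw [mult_fw, hoff w hw χ hχ, zero_mul]]
      refine finsum_congr fun χ => finsum_congr fun hχ => ?_
      rw [mult_fw, mul_comm]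
      congr 1
      by_cases h1 : (χ : G → ℂ) = fun _ => 1
      · rw [h1]; simp
      · have := hk χ hχ h1
        rw [show (χ : G → ℂ) (z * (v : G)) = (χ : G → ℂ) 1 - k by rw [← this]; ring,
          map_sub, BlocksCore.irr_one_eq, map_natCast, map_natCast]
    have := weight_eq hk fun χ => avg K w χ
    rw [h1, h2, zero_sub] at this
    exact this.symm
  have hsquares : ∀ w : ↥(centralizer ({z} : Set G)) ⧸ K, ¬ 2 ∣ orderOf w → ∑ χ : Cfsg.IrrCharacter G, avg K w χ ^ 2 =
      (Nat.card ↥(centralizer ({z} : Set G)) : ℂ)⁻¹ * ∑ h : ↥(centralizer ({z} : Set G)), fw K w⁻¹ h * fw K w h := by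
    intro w hw
    have hsf := isSecFun_fw K hM hK hblock w hw
    have h1 : ∀ χ : Cfsg.IrrCharacter G, avg K w χ ^ 2 = (Nat.card ↥(centralizer ({z} : Set G)) : ℂ)⁻¹ *
        ∑ h : ↥(centralizer ({z} : Set G)), fw K w⁻¹ h * (mult z (fw K w) χ * conj ((χ : G → ℂ) (z * (h : G)))) := by
      intro χ
      have h3 : avg K w χ = conj (mult z (fw K w⁻¹) χ) := by
        rw [mult_fw, conj_avg K hsq, inv_inv]
      rw [pow_two]
      nth_rw 2 [h3]
      rw [mult_def, map_mul, map_inv₀, map_natCast, map_sum, Finset.mul_sum, Finset.mul_sum,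
        Finset.mul_sum]
      refine Finset.sum_congr rfl fun h _ => ?_
      rw [map_mul, Complex.conj_conj, mult_fw]
      ring
    rw [Finset.sum_congr rfl fun χ _ => h1 χ, ← Finset.mul_sum, Finset.sum_comm]
    congr 1
    refine Finset.sum_congr rfl fun h _ => ?_
    rw [← Finset.mul_sum]
    by_cases hh : 2 ∣ orderOf h
    · rw [(isSecFun_fw K hM hK hblock w⁻¹ (by rwa [orderOf_inv])).supp h hh,
        hsf.supp h hh]
      simp
    · rw [sum_mult_conj hz' hsf h hh, conj_fw]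
  -- no odd part in the quotient
  have htot : ∀ w : ↥(centralizer ({z} : Set G)) ⧸ K, ¬ 2 ∣ orderOf w → fw K w v = 0 →
      Cfsg.MemLocalIdeal M (∑ χ : Cfsg.IrrCharacter G, avg K w χ ^ 2) → False := by
    intro w hw h0 hs
    have h1 := parity hM Finset.univ (fun χ => avg K w χ) (fun χ => avg_memLocalRing K hM hK w χ) hs
    have h2 : ∑ χ ∈ npr M G, avg K w χ = 0 := by
      have := hmain w hw
      rw [h0, neg_zero, mul_eq_zero] at this
      exact this.resolve_left (by exact_mod_cast hk0.ne')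
    rw [sum_all_eq (M := M) hM _ (hoff w hw), h2, add_zero,
      avg_one K (BlocksDefect.oneIrr G) BlocksDefect.coe_oneIrr] at h1
    exact BlocksCore.not_memLocalIdeal_one h1
  have hone : ∀ h : ↥(centralizer ({z} : Set G)), fw K (1 : ↥(centralizer ({z} : Set G)) ⧸ K) h =
      if h ∈ K then (Nat.card (↥(centralizer ({z} : Set G)) ⧸ K) : ℂ) else 0 := by
    intro h
    split_ifs with hh
    · have he : (h : ↥(centralizer ({z} : Set G)) ⧸ K) = 1 := (QuotientGroup.eq_one_iff h).mpr hh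
      refine congrArg _ (Nat.card_congr (Equiv.subtypeUnivEquiv fun x => ?_))
      rw [he, mul_one, mul_inv_cancel]
    · by_contra hne
      exact hh ((QuotientGroup.eq_one_iff h).mp (isConj_one_left.mp (fw_isConj K hne)))
  have hsqone : ∑ χ : Cfsg.IrrCharacter G, avg K (1 : ↥(centralizer ({z} : Set G)) ⧸ K) χ ^ 2 =
      (Nat.card (↥(centralizer ({z} : Set G)) ⧸ K) : ℂ) := by
    rw [hsquares 1 hvK1, inv_one]
    simp only [hone, ← pow_two, ite_pow, zero_pow two_ne_zero]
    rw [← Finset.sum_filter, Finset.sum_const, nsmul_eq_mul,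
      show (Finset.univ.filter fun h : ↥(centralizer ({z} : Set G)) => h ∈ K).card = Nat.card K by
        rw [Nat.card_eq_fintype_card, Fintype.card_subtype],
      Subgroup.card_eq_card_quotient_mul_card_subgroup K]
    have h1 : (Nat.card (↥(centralizer ({z} : Set G)) ⧸ K) : ℂ) ≠ 0 := by exact_mod_cast Nat.card_pos.ne'
    have h2 : (Nat.card K : ℂ) ≠ 0 := by exact_mod_cast Nat.card_pos.ne'
    push_cast
    field_simp
  have hq2 : 2 ∣ Nat.card (P : Subgroup G) := by
    have h1 := Subgroup.card_dvd_of_le hQ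
    rw [Nat.card_zpowers, Nat.card_congr (Sylow.equiv Q P).toEquiv] at h1
    exact (dvd_of_eq hz.symm).trans h1
  have hvK : v ∈ K := by
    by_contra hvK
    refine htot 1 hvK1 (by rw [hone, if_neg hvK]) ?_
    rw [hsqone, BlocksCore.memLocalIdeal_natCast_iff hM]
    exact (hTcard ▸ hq2).trans (Subgroup.card_subgroup_dvd_card _)
  have hquot : ∀ w : ↥(centralizer ({z} : Set G)) ⧸ K, ¬ 2 ∣ orderOf w → w = 1 := by
    intro w hw
    by_contra hw1
    refine htot w hw ?_ ?_
    · by_contra hne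
      have h1 := fw_isConj K hne
      rw [(QuotientGroup.eq_one_iff v).mpr hvK] at h1
      exact hw1 (isConj_one_right.mp h1)
    · rw [hsquares w hw, Finset.sum_eq_zero, mul_zero]
      · exact BlocksCore.memLocalIdeal_zero
      · intro h _
        by_contra hne
        obtain ⟨h1, h2⟩ := mul_ne_zero_iff.mp hne
        exact not_real T hTeq hw hw1 ((fw_isConj K h2).symm.trans (fw_isConj K h1))
  have hHq : Nat.card (↥(centralizer ({z} : Set G)) ⧸ K) = Nat.card (P : Subgroup G) := by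
    rw [← hTcard]
    have hpg : IsPGroup 2 (↥(centralizer ({z} : Set G)) ⧸ K) := IsPGroup.iff_orderOf.mpr fun x => by
      obtain ⟨e, m, hm, hem⟩ :=
        Nat.exists_eq_pow_mul_and_not_dvd (orderOf_pos x).ne' 2 (by norm_num)
      refine ⟨e, ?_⟩
      have h1 := hquot (x ^ 2 ^ e) (by
        rw [orderOf_pow, hem, Nat.gcd_eq_right (dvd_mul_right _ _),
          Nat.mul_div_cancel_left _ (pow_pos two_pos e)]
        exact hm)
      exact Nat.dvd_antisymm (orderOf_dvd_of_pow_eq_one h1) (hem ▸ dvd_mul_right _ _)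
    rw [← T.is_maximal' (hpg.to_subgroup ⊤) le_top, Subgroup.card_top]
  have hval : ∀ χ ∈ Cfsg.principalBlock M G, ∀ h ∈ K,
      (χ : G → ℂ) (z * ((h : ↥(centralizer ({z} : Set G))) : G)) = (χ : G → ℂ) z := by
    intro χ hχ h hh
    refine ZStar.apply_mul_eq (p := 2) (K := K.map (centralizer ({z} : Set G)).subtype) hM ?_ hχ
      (Subgroup.mem_map_of_mem _ hh)
    refine ⟨⟨1, hz'⟩, map_subtype_le K, ?_, ?_⟩
    · intro a ha
      rw [Subgroup.mem_normalizer_iff]
      intro b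
      constructor
      · rintro ⟨b', hb', rfl⟩
        exact ⟨⟨a, ha⟩ * b' * ⟨a, ha⟩⁻¹, Subgroup.Normal.conj_mem inferInstance b' hb' _, rfl⟩
      · rintro ⟨b', hb', hb''⟩
        refine ⟨⟨a, ha⟩⁻¹ * b' * ⟨a, ha⟩⁻¹⁻¹, Subgroup.Normal.conj_mem inferInstance b' hb' _, ?_⟩
        simp only [inv_inv, map_mul, map_inv, hb'']
        simp [mul_assoc]
    · rw [Subgroup.card_map_of_injective (centralizer ({z} : Set G)).subtype_injective]
      exact fun h => Nat.not_even_iff_odd.mpr hK (even_iff_two_dvd.mpr h)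
  have havg : ∀ χ ∈ Cfsg.principalBlock M G, avg K (1 : ↥(centralizer ({z} : Set G)) ⧸ K) χ = (χ : G → ℂ) z := by
    intro χ hχ
    rw [avg]
    have h1 : ∀ h ∈ Finset.univ.filter (fun h : ↥(centralizer ({z} : Set G)) => (h : ↥(centralizer ({z} : Set G)) ⧸ K) = 1),
        (χ : G → ℂ) (z * (h : G)) = (χ : G → ℂ) z := fun h hh =>
      hval χ hχ h ((QuotientGroup.eq_one_iff h).mp (Finset.mem_filter.mp hh).2)
    rw [Finset.sum_congr rfl h1, Finset.sum_const, nsmul_eq_mul,
      show (Finset.univ.filter fun h : ↥(centralizer ({z} : Set G)) => (h : ↥(centralizer ({z} : Set G)) ⧸ K) = 1).card = Nat.card K by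
        rw [Nat.card_eq_fintype_card, ← Fintype.card_subtype]
        exact Fintype.card_congr (Equiv.subtypeEquivRight fun h => QuotientGroup.eq_one_iff h),
      ← mul_assoc, inv_mul_cancel₀ (by exact_mod_cast Nat.card_pos.ne'), one_mul]
  set q := Nat.card (P : Subgroup G) with hq
  have hsum : (k : ℂ) * ∑ χ ∈ npr M G, (χ : G → ℂ) z = -(q : ℂ) := by
    have h := hmain 1 hvK1
    rw [hone, if_pos hvK, hHq, Finset.sum_congr rfl fun χ hχ => havg χ (mem_npr.mp hχ).1] at h
    exact h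
  have hsq1 : 1 + ∑ χ ∈ npr M G, ((χ : G → ℂ) z) ^ 2 = (q : ℂ) := by
    rw [← hHq, ← hsqone, sum_all_eq (M := M) hM _ fun χ hχ => by
      rw [hoff 1 hvK1 χ hχ, zero_pow two_ne_zero]]
    rw [avg_one K (BlocksDefect.oneIrr G) BlocksDefect.coe_oneIrr, one_pow]
    exact congrArg _ (Finset.sum_congr rfl fun χ hχ => by rw [havg χ (mem_npr.mp hχ).1])
  choose e he using fun χ : Cfsg.IrrCharacter G => BlocksCore.KleinBlock.exists_int_of_sq χ hsq
  set S : ℤ := ∑ χ ∈ npr M G, e χ with hS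
  have hSc : (S : ℂ) = ∑ χ ∈ npr M G, (χ : G → ℂ) z := by
    rw [hS, Int.cast_sum]; exact Finset.sum_congr rfl fun χ _ => (he χ).symm
  have hkS : (k : ℤ) * S = -(q : ℤ) := by
    rw [← hSc] at hsum; exact_mod_cast hsum
  have hSodd : ¬ (2 : ℤ) ∣ S := by
    intro h2
    have h1 := parity hM Finset.univ (fun χ => avg K (1 : ↥(centralizer ({z} : Set G)) ⧸ K) χ)
      (fun χ => avg_memLocalRing K hM hK 1 χ) (by
        rw [hsqone, BlocksCore.memLocalIdeal_natCast_iff hM, hHq]; exact hq2)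
    rw [sum_all_eq (M := M) hM _ (hoff 1 hvK1),
      avg_one K (BlocksDefect.oneIrr G) BlocksDefect.coe_oneIrr,
      Finset.sum_congr rfl fun χ hχ => havg χ (mem_npr.mp hχ).1, ← hSc] at h1
    have h3 : (2 : ℤ) ∣ 1 + S := by
      refine (BlocksCore.memLocalIdeal_intCast_iff hM _).mp ?_
      push_cast
      exact h1
    omega
  obtain ⟨n, hn⟩ := IsPGroup.iff_card.mp P.2
  have hkq : k = q := by
    have h1 : S.natAbs * k = q := by
      have := congrArg Int.natAbs hkS
      rwa [Int.natAbs_mul, Int.natAbs_natCast, Int.natAbs_neg, Int.natAbs_natCast, mul_comm] at this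
    obtain ⟨j, -, hj⟩ := (Nat.dvd_prime_pow Nat.prime_two).mp
      (show S.natAbs ∣ 2 ^ n from hn ▸ hq ▸ h1 ▸ dvd_mul_right _ _)
    rcases Nat.eq_zero_or_pos j with rfl | hj0
    · rw [hj, pow_zero, one_mul] at h1; exact h1
    · exact absurd (Int.natCast_dvd.mpr (hj ▸ dvd_pow_self 2 hj0.ne')) hSodd
  have hS1 : S = -1 := by
    have hq0 : (q : ℤ) ≠ 0 := by exact_mod_cast (Nat.card_pos (α := (P : Subgroup G))).ne'
    have : (q : ℤ) * S = (q : ℤ) * (-1) := by rw [mul_neg_one, ← hkS, hkq]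
    exact mul_left_cancel₀ hq0 this
  refine ⟨hkq, ⟨K, inferInstance, hK, ?_, hvK⟩, fun χ hχ => hval χ hχ v hvK, ?_, ?_⟩
  · rw [Subgroup.index]; exact hHq
  · rw [← hSc, hS1]; simp
  · rw [← hsq1]; ring

end Cfsg.Agent.CD88
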